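import Groth.Agent.LinSysLib.BlowUp
import Groth.Agent.GenFlatStrat.FGExtend
import Groth.Agent.ModGlueLib.Basic
import Groth.Agent.IntMultLib.Cartier
import Groth.Agent.MiscFlat6.AmpleFamilyRel
import Groth.Agent.AmpleThLib.Locus
import Groth.Agent.SerreVanLib.Rpush
import Groth.Agent.CohTopLib.Leray

/-!
# The exceptional ideal of a blowing up is relatively ample
-/

set_option autoImplicit false
set_option linter.style.haveILetI false
set_option maxHeartbeats 1000000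
universe u

open CategoryTheory CategoryTheory.Limits AlgebraicGeometry TopologicalSpace Opposite
open AmpleLib AmpleThLib
open LinSysLib (PrinPiece)
open TwistLib (genSet)

noncomputable section

namespace LichtLib

variable {X X' : Scheme.{u}}

/-- The image of a section of an ideal in the functions. -/
abbrev ideFn (E : X'.IdealSheafData) {O : X'.Opens} (t : Γ(ClSub.idealMod E, O)) : Γ(X', O) :=
  OmegaSh.fnSect X' O ((ClSub.idealModι E).app O t)

theorem ideFn_injective (E : X'.IdealSheafData) (O : X'.Opens) : Function.Injective (ideFn E (O := O)) :=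
  IntMultLib.idealModι_app_injective E O

theorem ideFn_smul (E : X'.IdealSheafData) {O : X'.Opens} (r : Γ(X', O)) (t : Γ(ClSub.idealMod E, O)) :
    ideFn E (r • t) = r * ideFn E t := QCohLib.app_smul (ClSub.idealModι E) O r t

theorem ideFn_res (E : X'.IdealSheafData) {O O' : X'.Opens} (h : O' ≤ O) (t : Γ(ClSub.idealMod E, O)) :
    ideFn E (AmpleLib.res _ h t) = X'.presheaf.map (homOfLE h).op (ideFn E t) :=
  QCohLib.app_map (ClSub.idealModι E) (homOfLE h) t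

/-- A function lying locally in the ideal is a section of the ideal. -/
theorem exists_ideFn (E : X'.IdealSheafData) (O : X'.Opens) (z : Γ(X', O))
    (hz : ∀ (T : X'.affineOpens) (hT : T.1 ≤ O), X'.presheaf.map (homOfLE hT).op z ∈ E.ideal T) :
    ∃ t : Γ(ClSub.idealMod E, O), ideFn E t = z := by
  have h0 : (ClSub.toSubscheme E).app O (z : Γ(Coh.structureModule X', O)) = 0 := by
    refine ModGlueLib.eq_of_locally _ _ fun p hp => ?_
    obtain ⟨T, hT, hpT, hTO⟩ := exists_isAffineOpen_mem_and_subset (x := p) (U := O) hp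
    refine ⟨T, hTO, hpT, ?_⟩
    rw [ModGlueLib.rs_zero, ← ModGlueLib.app_rs]
    exact (GenFlatStrat.subschemeι_app_eq_zero_iff E ⟨T, hT⟩ _).mpr (hz ⟨T, hT⟩ hTO)
  obtain ⟨t, ht⟩ := QCohLib.exists_of_app_eq_zero
    (S := ShortComplex.mk (ClSub.idealModι E) (ClSub.toSubscheme E) (kernel.condition _))
    (ShortComplex.exact_of_f_is_kernel _ (kernelIsKernel _))
    (inferInstanceAs (Mono (kernel.ι _))) (z : Γ(Coh.structureModule X', O)) h0
  exact ⟨t, ht⟩

theorem genOn_of_prinPiece (E : X'.IdealSheafData) (P : PrinPiece E) {O : X'.Opens} (h : P.W.1 ≤ O)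
    (t : Γ(ClSub.idealMod E, O)) (ht : X'.presheaf.map (homOfLE h).op (ideFn E t) = P.γ) :
    GenOn (ClSub.idealMod E) (AmpleLib.res _ h t) := by
  intro T hT
  have key : ∀ r : Γ(X', T), ideFn E (r • AmpleLib.res _ hT (AmpleLib.res _ h t)) = r * LinSysLib.rs hT P.γ :=
    fun r => by rw [ideFn_smul, ideFn_res, ideFn_res, ht]
  refine ⟨fun r r' e => P.cancel_eq hT ?_, fun s => ?_⟩
  · rw [← key, ← key]; exact congrArg (ideFn E) e
  · obtain ⟨w, hw⟩ := P.exists_div hT (ideFn E s) fun W hW => by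
      have h1 := GenFlatStrat.idealModι_mem E W (AmpleLib.res _ hW s)
      rwa [show OmegaSh.fnSect X' W.1 ((ClSub.idealModι E).app W.1 (AmpleLib.res _ hW s)) = _ from ideFn_res E hW s] at h1
    exact ⟨w, ideFn_injective E T ((key w).trans hw)⟩

theorem exists_prinPiece_of_genOn (E : X'.IdealSheafData) (W : X'.affineOpens) (t : Γ(ClSub.idealMod E, W.1))
    (ht : GenOn (ClSub.idealMod E) t) :
    ideFn E t ∈ nonZeroDivisors Γ(X', W.1) ∧ E.ideal W = Ideal.span {ideFn E t} := by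
  have hb := ht W.1 le_rfl
  simp only [AmpleLib.res_refl] at hb
  refine ⟨mem_nonZeroDivisors_iff_right.mpr fun r hr => hb.1 (ideFn_injective E _ ?_), le_antisymm (fun y hy => ?_) ?_⟩
  · show ideFn E (r • t) = ideFn E ((0 : Γ(X', W.1)) • t)
    rw [ideFn_smul, ideFn_smul, hr, zero_mul]
  · obtain ⟨s, hs⟩ := GenFlatStrat.exists_idealMod_section E W y hy
    obtain ⟨r, hr⟩ := hb.2 s
    refine Ideal.mem_span_singleton'.mpr ⟨r, ?_⟩
    rw [← ideFn_smul, ← hs]
    exact congrArg (ideFn E) hr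
  · rw [Ideal.span_singleton_le_iff_mem]
    exact GenFlatStrat.idealModι_mem E W t

variable {b : X' ⟶ X} {𝓘 : X.IdealSheafData}

/-- The open of a chart, with the generator of the exceptional ideal on it. -/
theorem exists_chart_open (hb : BlowUp.IsBlowUp b 𝓘) (U₀ : X.affineOpens) (y : X') (hy₀ : b y ∈ U₀.1) :
    ∃ (a : Γ(X, U₀.1)) (_ : a ∈ 𝓘.ideal U₀) (W : X'.affineOpens) (hW : W.1 ≤ b ⁻¹ᵁ U₀.1), y ∈ W.1 ∧
      (b.appLE U₀.1 W.1 hW).hom a ∈ nonZeroDivisors Γ(X', W.1) ∧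
      (𝓘.comap b).ideal W = Ideal.span {(b.appLE U₀.1 W.1 hW).hom a} ∧
      ∀ (T : X'.affineOpens) (hT : T.1 ≤ b ⁻¹ᵁ U₀.1),
        (b.appLE U₀.1 T.1 hT).hom a ∈ nonZeroDivisors Γ(X', T.1) →
        (𝓘.comap b).ideal T = Ideal.span {(b.appLE U₀.1 T.1 hT).hom a} → T.1 ≤ W.1 := by
  obtain ⟨U, hU⟩ := U₀
  let U₀ : X.affineOpens := ⟨U, hU⟩
  obtain ⟨a, ha, c, hc, hy, hcb⟩ := BlowUpLib.exists_chart hb U₀ y hy₀
  let C := BlowUp.affineAlgebra Γ(X, U) (𝓘.ideal U₀) a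
  let W₀ : X'.Opens := c.opensRange
  have hW₀ : IsAffineOpen W₀ := isAffineOpen_opensRange c
  have hW₀U : W₀ ≤ b ⁻¹ᵁ U := by
    rintro _ ⟨q, rfl⟩
    change (c ≫ b) q ∈ U
    rw [hcb]
    exact hU.range_fromSpec.subset ⟨_, rfl⟩
  let κ : Γ(X, U) →+* C := algebraMap Γ(X, U) C
  have hch : BlowUpLib.IsChart (𝓘.ideal U₀) a κ := BlowUpLib.isChart_affineAlgebra ha
  let ξ : Γ(X', W₀) →+* C :=
    ((Scheme.ΓSpecIso (CommRingCat.of C)).hom.hom).comp (c.appLE W₀ ⊤ (by rw [Scheme.Hom.preimage_opensRange])).hom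
  have hξb : Function.Bijective ξ := by
    have : IsIso (c.appLE W₀ ⊤ (by rw [Scheme.Hom.preimage_opensRange])) := by
      rw [Scheme.Hom.appLE]
      have h1 : IsIso (c.app W₀) := c.isIso_app W₀ le_rfl
      have h2 : IsIso ((Spec (CommRingCat.of C)).presheaf.map
          (homOfLE (show (⊤ : (Spec (CommRingCat.of C)).Opens) ≤ c ⁻¹ᵁ W₀ by rw [Scheme.Hom.preimage_opensRange])).op) := by
        have : IsIso (homOfLE (show (⊤ : (Spec (CommRingCat.of C)).Opens) ≤ c ⁻¹ᵁ W₀ by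
            rw [Scheme.Hom.preimage_opensRange])) := ⟨homOfLE le_top, rfl, rfl⟩
        infer_instance
      infer_instance
    exact ((ConcreteCategory.bijective_of_isIso (Scheme.ΓSpecIso (CommRingCat.of C)).hom).comp
      (ConcreteCategory.bijective_of_isIso (c.appLE W₀ ⊤ _)))
  have hξκ : ∀ x : Γ(X, U), ξ ((b.appLE U W₀ hW₀U).hom x) = κ x := by
    intro x
    show (Scheme.ΓSpecIso (CommRingCat.of C)).hom.hom _ = _
    rw [← CommRingCat.comp_apply (b.appLE U W₀ hW₀U), Scheme.Hom.appLE_comp_appLE]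
    simp only [hcb]
    have h2 : (Spec.map (CommRingCat.ofHom κ) ≫ hU.fromSpec).appLE U ⊤
        (by rw [Scheme.Hom.comp_preimage, hU.fromSpec_preimage_self]; rfl) ≫ (Scheme.ΓSpecIso (CommRingCat.of C)).hom =
        CommRingCat.ofHom κ := by
      rw [Scheme.Hom.appLE, Scheme.Hom.comp_app, hU.fromSpec_app_self]
      simp
      rw [← Functor.map_comp_assoc]
      erw [Subsingleton.elim (_ ≫ _ : (op (⊤ : (Spec (CommRingCat.of C)).Opens)) ⟶ op ⊤) (𝟙 _)]
      erw [CategoryTheory.Functor.map_id, Category.id_comp]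
      erw [Scheme.ΓSpecIso_naturality]
      exact Iso.inv_hom_id_assoc _ _
    exact DFunLike.congr_fun (congrArg CommRingCat.Hom.hom h2) x
  have hspan : (𝓘.ideal U₀).map (b.appLE U W₀ hW₀U).hom = Ideal.span {(b.appLE U W₀ hW₀U).hom a} := by
    have h0 : ξ.comp (b.appLE U W₀ hW₀U).hom = κ := RingHom.ext hξκ
    have h1 : ((𝓘.ideal U₀).map (b.appLE U W₀ hW₀U).hom).map ξ =
        (Ideal.span {(b.appLE U W₀ hW₀U).hom a}).map ξ := by
      rw [Ideal.map_map, h0, hch.span, Ideal.map_span, Set.image_singleton, hξκ]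
    have h2 := congrArg (Ideal.comap ξ) h1
    rwa [Ideal.comap_map_of_bijective ξ hξb, Ideal.comap_map_of_bijective ξ hξb] at h2
  refine ⟨a, ha, ⟨W₀, hW₀⟩, hW₀U, hy, ?_, ?_, fun T hTU hnz hJ => ?_⟩
  · refine mem_nonZeroDivisors_iff_right.mpr fun z hz => hξb.1 ?_
    have h1 := congrArg ξ hz
    rw [map_mul, map_zero, hξκ] at h1
    rw [map_zero]
    exact mem_nonZeroDivisors_iff_right.mp hch.nzd _ h1
  · exact (Groth.Agent.S4666.ideal_comap_eq 𝓘 b U₀ ⟨W₀, hW₀⟩ hW₀U).trans hspan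
  · obtain ⟨V, hV⟩ := T
    let φ : Γ(X, U) →+* Γ(X', V) := (b.appLE U V hTU).hom
    have hJ' : (𝓘.ideal U₀).map φ = Ideal.span {φ a} :=
      (Groth.Agent.S4666.ideal_comap_eq 𝓘 b U₀ ⟨V, hV⟩ hTU).symm.trans hJ
    obtain ⟨ψ, hψ, -⟩ := hch.lift Γ(X', V) φ hnz hJ'
    let k : Spec Γ(X', V) ⟶ X' := Spec.map (CommRingCat.ofHom ψ) ≫ c
    have hk : k ≫ b = hV.fromSpec ≫ b := by
      show (Spec.map (CommRingCat.ofHom ψ) ≫ c) ≫ b = _
      rw [Category.assoc, hcb, ← Category.assoc, ← Spec.map_comp, ← CommRingCat.ofHom_comp,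
        show ψ.comp κ = φ from hψ, ← IsAffineOpen.SpecMap_appLE_fromSpec b hU hV hTU]
      rfl
    have hcart : BlowUp.IsEffCartierIdeal (𝓘.comap (hV.fromSpec ≫ b)) := by
      rw [Scheme.IdealSheafData.comap_comp]
      exact BlowUpLib.isEffCartier_comap_of_flat _ hb.1
    have hkk : k = hV.fromSpec := BlowUpLib.hom_ext hb _ hcart hk rfl
    intro z hzV
    obtain ⟨q, rfl⟩ : z ∈ Set.range hV.fromSpec := hV.range_fromSpec.symm ▸ hzV
    rw [← hkk]
    exact ⟨_, rfl⟩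

/-- The exceptional ideal is ample over every affine open of the base. -/
theorem isAmple_exceptional (hb : BlowUp.IsBlowUp b 𝓘) (h𝓘 : BlowUp.IsFiniteTypeIdeal 𝓘) (V : X.affineOpens) :
    CohB1.IsAmple ((ClSub.idealMod (𝓘.comap b)).restrict (b ⁻¹ᵁ V.1).ι) := by
  haveI := BlowUpLib.isProper_of_isBlowUp hb h𝓘
  let E := 𝓘.comap b
  let U : X'.Opens := b ⁻¹ᵁ V.1
  have hL : PicF.IsInvertible (ClSub.idealMod E) := IntMultLib.isInvertible_idealMod E hb.1
  have hLU := AmpleThLib.restrict_isInvertible hL U.ι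
  refine (isAmple_iff (hL := hLU)).mpr ⟨isCompact_iff_compactSpace.mp (b.isCompact_preimage V.2.isCompact), fun x => ?_⟩
  obtain ⟨a, ha, W, hWU, hxW, hnz, hspan, hmax⟩ := exists_chart_open hb V x.1 x.2
  obtain ⟨t, ht⟩ := exists_ideFn E U ((b.app V.1).hom a) fun T hT => by
    rw [Groth.Agent.S4666.ideal_comap_eq 𝓘 b V T hT]
    exact Ideal.mem_map_of_mem _ ha
  let σ : Γ((ClSub.idealMod E).restrict U.ι, ⊤) :=
    AmpleLib.res (ClSub.idealMod E) (U.ι_image_top.le : U.ι ''ᵁ ⊤ ≤ U) t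
  have hW : GenOn (ClSub.idealMod E) (AmpleLib.res _ hWU t) := by
    refine genOn_of_prinPiece E ⟨W, _, hnz, hspan⟩ hWU t ?_
    rw [ht]
    rfl
  have hgen : genSet hLU σ = U.ι ⁻¹ᵁ W.1 := by
    ext z
    have e1 : z ∈ genSet hLU σ ↔ GenAt (ClSub.idealMod E) t z.2 :=
      (MiscFlat6.genAt_restrict_iff hL U.ι _ z).trans (genAt_res _ t _)
    refine ⟨fun hz => ?_, fun hz => e1.2 ((genAt_res hWU t hz).1 (hW.genAt hz))⟩
    let O : X'.Opens := U.ι ''ᵁ genSet hLU σ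
    obtain ⟨T, hT, hzT, hTO⟩ := exists_isAffineOpen_mem_and_subset (x := z.1) (U := O) ⟨z, hz, rfl⟩
    have hTU : T ≤ U := hTO.trans (U.ι_image_le _)
    have hg : GenOn (ClSub.idealMod E) (AmpleLib.res _ hTU t) := TwistLib.genOn_of_genAt fun y hy => by
      obtain ⟨y', hy', rfl⟩ := hTO hy
      exact (genAt_res hTU t hy).2 (((MiscFlat6.genAt_restrict_iff hL U.ι _ y').trans (genAt_res _ t _)).1 hy')
    obtain ⟨h1, h2⟩ := exists_prinPiece_of_genOn E ⟨T, hT⟩ _ hg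
    rw [ideFn_res, ht] at h1 h2
    exact hmax ⟨T, hT⟩ hTU h1 h2 hzT
  refine ⟨1, U.ι ⁻¹ᵁ W.1, one_pos, ⟨pS σ 1, ?_⟩, hxW, ?_⟩
  · rw [genSet_pS hLU σ one_pos, hgen]
  · exact W.2.preimage_of_isOpenImmersion U.ι (by rw [Scheme.Opens.opensRange_ι]; exact hWU)

/-- High twists by the exceptional ideal have the cohomology of their direct image. -/
theorem exists_vanishing [IsNoetherian X] (hb : BlowUp.IsBlowUp b 𝓘) (h𝓘 : BlowUp.IsFiniteTypeIdeal 𝓘)
    (M : X'.Modules) (hM : Coh.IsCoh M) :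
    ∃ n₀ : ℕ, ∀ n : ℕ, n₀ ≤ n → ∀ p : ℕ,
      Nonempty (Coh.HH X' (CohB1.tensorMod M (CohB1.tensorPow (ClSub.idealMod (𝓘.comap b)) n)) p ≃+
        Coh.HH X ((Coh.push b).obj (CohB1.tensorMod M (CohB1.tensorPow (ClSub.idealMod (𝓘.comap b)) n))) p) := by
  haveI := BlowUpLib.isProper_of_isBlowUp hb h𝓘
  obtain ⟨n₀, hn₀⟩ := SerreVanLib.exists_vanishing_rpush b _ (IntMultLib.isInvertible_idealMod _ hb.1)
    (fun W hW => isAmple_exceptional hb h𝓘 ⟨W, hW⟩) M hM
  exact ⟨n₀, fun n hn p => CohTopLib.nonempty_H_equiv_of_isZero_Rpush b.base _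
    (fun q => hn₀ n hn (q + 1) q.succ_pos) p⟩

end LichtLib
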