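import Groth.Agent.DevissLib.Stalk
import Groth.Agent.DevissLib.Basic
import Groth.Agent.CurvLib.SupportVanish
import Groth.Agent.PnCohLib.Hypersurface
import Groth.Agent.SerreVanLib.Main
import Groth.Agent.CurvLib.Euler
import Groth.Agent.VarDimLib.Basic

/-!
# Cohomology in the top degree: surjectivity along maps which are surjective off a small closed set
-/

set_option autoImplicit false
set_option linter.style.haveILetI false
universe u

open CategoryTheory CategoryTheory.Limits AlgebraicGeometry TopologicalSpace Opposite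
open DevissLib (St)

noncomputable section

namespace LichtLib

variable {X : Scheme.{u}}

/-- The map on cohomology induced by a morphism of modules. -/
abbrev hm {M N : X.Modules} (φ : M ⟶ N) (p : ℕ) : Coh.HH X M p →+ Coh.HH X N p :=
  Sheaf.H.map ((SheafOfModules.toSheaf X.ringCatSheaf).map φ) p

theorem hm_comp {L M N : X.Modules} (φ : L ⟶ M) (ψ : M ⟶ N) (p : ℕ) (x : Coh.HH X L p) :
    hm (φ ≫ ψ) p x = hm ψ p (hm φ p x) :=
  (congrArg (fun a => Sheaf.H.map a p x) (Functor.map_comp _ φ ψ)).trans (Sheaf.H.map_comp_apply _ _ _)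

theorem hm_id (M : X.Modules) (p : ℕ) (x : Coh.HH X M p) : hm (𝟙 M) p x = x :=
  (congrArg (fun a => Sheaf.H.map a p x) ((SheafOfModules.toSheaf X.ringCatSheaf).map_id M)).trans (Sheaf.H.map_id_apply _)

theorem hm_zero (M N : X.Modules) (p : ℕ) (x : Coh.HH X M p) : hm (0 : M ⟶ N) p x = 0 := by
  refine (congrArg (fun a => Sheaf.H.map a p x) ((SheafOfModules.toSheaf X.ringCatSheaf).map_zero M N)).trans ?_
  show Abelian.Ext.comp x (Abelian.Ext.mk₀ (0 : Coh.toAb M ⟶ Coh.toAb N)) (add_zero p) = 0
  rw [Abelian.Ext.mk₀_zero, Abelian.Ext.comp_zero]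

theorem hm_bijective {M N : X.Modules} (φ : M ⟶ N) [IsIso φ] (p : ℕ) : Function.Bijective (hm φ p) := by
  refine Function.bijective_iff_has_inverse.2 ⟨hm (inv φ) p, fun x => ?_, fun x => ?_⟩
  · rw [← hm_comp, IsIso.hom_inv_id, hm_id]
  · rw [← hm_comp, IsIso.inv_hom_id, hm_id]

theorem surjective_f {S : ShortComplex X.Modules} (hS : S.ShortExact) {p : ℕ}
    (h : Subsingleton (Coh.HH X S.X₃ p)) : Function.Surjective (hm S.f p) := fun y =>
  AtlasCoh.hExact₂ (QCohLib.toAbF_shortExact hS) p y (h.elim _ _)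

theorem surjective_g {S : ShortComplex X.Modules} (hS : S.ShortExact) {p : ℕ}
    (h : Subsingleton (Coh.HH X S.X₁ (p + 1))) : Function.Surjective (hm S.g p) := fun y =>
  AtlasCoh.hExact₃ (QCohLib.toAbF_shortExact hS) p y (h.elim _ _)

theorem subsingleton_middle {S : ShortComplex X.Modules} (hS : S.ShortExact) {p : ℕ}
    (h₁ : Subsingleton (Coh.HH X S.X₁ p)) (h₃ : Subsingleton (Coh.HH X S.X₃ p)) :
    Subsingleton (Coh.HH X S.X₂ p) :=
  Function.Surjective.subsingleton (surjective_f hS h₃)

theorem exists_of_hm_eq_zero {S : ShortComplex X.Modules} (hS : S.ShortExact) {p : ℕ}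
    {x : Coh.HH X S.X₂ p} (hx : hm S.g p x = 0) : ∃ y, hm S.f p y = x :=
  AtlasCoh.hExact₂ (QCohLib.toAbF_shortExact hS) p x hx

/-- An epimorphism is surjective in degree `d` when the dimension is at most `d`. -/
theorem surjective_of_epi [NoetherianSpace X] {d : ℕ} (hd : topologicalKrullDim X ≤ d) {A B : X.Modules}
    (φ : A ⟶ B) [Epi φ] : Function.Surjective (hm φ d) := by
  have hS : (ShortComplex.mk (kernel.ι φ) φ (kernel.condition φ)).ShortExact :=
    { exact := ShortComplex.exact_of_f_is_kernel _ (kernelIsKernel φ)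
      mono_f := inferInstanceAs (Mono (kernel.ι φ))
      epi_g := ‹_› }
  exact surjective_g hS (CurvLib.subsingleton_HH_of_dim_le _ hd (d + 1) (Nat.lt_succ_self d))

/-- A morphism which is surjective on stalks off a closed set of dimension less than `d` is surjective
on cohomology in degree `d`. -/
theorem surjective_of_support [NoetherianSpace X] {d : ℕ} (hd : topologicalKrullDim X ≤ (d + 1 : ℕ))
    {T : Set X} (hT : IsClosed T) (hTd : topologicalKrullDim T ≤ d) {A B : X.Modules} (φ : A ⟶ B)
    (h : ∀ x ∉ T, Function.Surjective ((St x).map φ).hom) : Function.Surjective (hm φ (d + 1)) := by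
  have hc : Subsingleton (Coh.HH X (cokernel φ) (d + 1)) :=
    CurvLib.subsingleton_HH_of_support _ hT (fun x hx => by_contra fun hxT =>
      DevissLib.notMem_support_cokernel φ x (h x hxT) hx) hTd (d + 1) (Nat.lt_succ_self d)
  have h1 := surjective_f (DevissLib.imCokSeq_shortExact φ) hc
  have h2 := surjective_of_epi hd (Abelian.factorThruImage φ)
  intro y
  obtain ⟨z, rfl⟩ := h1 y
  obtain ⟨x, rfl⟩ := h2 z
  exact ⟨x, by rw [← hm_comp, Abelian.image.fac]⟩

theorem subsingleton_of_support [NoetherianSpace X] {d : ℕ} {T : Set X} (hT : IsClosed T)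
    (hTd : topologicalKrullDim T ≤ d) (M : X.Modules) (hM : ∀ x ∉ T, Subsingleton (M.presheaf.stalk x)) :
    Subsingleton (Coh.HH X M (d + 1)) :=
  CurvLib.subsingleton_HH_of_support M hT (fun x hx => by_contra fun hxT => hx (hM x hxT)) hTd (d + 1)
    (Nat.lt_succ_self d)

/-- Closed sets missing a point of an irreducible space of dimension `d + 1` have dimension `≤ d`. -/
theorem dim_le_of_ne_univ [IrreducibleSpace X] {d : ℕ} (hd : topologicalKrullDim X ≤ (d + 1 : ℕ)) {T : Set X}
    (hT : IsClosed T) (hne : T ≠ Set.univ) : topologicalKrullDim T ≤ d :=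
  PnCohLib.dim_closed_le hT hne hd

/-- Surjectivity at the generic point gives surjectivity in the top degree. -/
theorem surjective_of_open [NoetherianSpace X] [IrreducibleSpace X] {d : ℕ}
    (hd : topologicalKrullDim X ≤ (d + 1 : ℕ)) {U : X.Opens} (hU : (U : Set X).Nonempty) {A B : X.Modules}
    (φ : A ⟶ B) (h : ∀ x ∈ U, Function.Surjective ((St x).map φ).hom) :
    Function.Surjective (hm φ (d + 1)) :=
  surjective_of_support hd U.isOpen.isClosed_compl
    (dim_le_of_ne_univ hd U.isOpen.isClosed_compl (by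
      rw [Ne, Set.compl_univ_iff]
      exact hU.ne_empty)) φ fun x hx => h x (not_not.1 hx)

end LichtLib
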