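import Groth.Agent.RTrivLib.P1

/-!
# `P^n_R` as a base change of `P^n_ℤ`, over `R`
-/

set_option autoImplicit false
set_option linter.style.haveILetI false
universe u

open CategoryTheory CategoryTheory.Limits AlgebraicGeometry

noncomputable section

namespace LichtLib

open RTrivLib (Z)
attribute [local instance] MvPolynomial.algebraMvPolynomial

theorem exists_iso_over (n : ℕ) (R : Type u) [CommRing R] :
    ∃ e : CohB1.ProjSpace n R ≅ CohB1.ProjSpaceOver n (Spec (CommRingCat.of R)),
      e.hom ≫ CohB1.ProjSpaceOver.toBase n _ = CohB1.ProjSpace.toSpec n R := by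
  letI : Algebra Z.{u} R := ((Int.castRingHom R).comp ULift.ringEquiv.toRingHom).toAlgebra
  let φ : CohB1.polyGrading n Z.{u} →+*ᵍ CohB1.polyGrading n R :=
    { MvPolynomial.map (σ := Fin (n + 1)) (algebraMap Z.{u} R) with
      map_mem := fun {i x} hx => MvPolynomial.IsHomogeneous.map hx _ }
  have hφA : ∀ b, φ b = algebraMap (MvPolynomial (Fin (n + 1)) Z.{u}) (MvPolynomial (Fin (n + 1)) R) b :=
    fun b => rfl
  have hirr : HomogeneousIdeal.irrelevant (CohB1.polyGrading n R) ≤
      (HomogeneousIdeal.irrelevant (CohB1.polyGrading n Z.{u})).map φ := by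
    intro x hx
    have hx0 : MvPolynomial.homogeneousComponent 0 x = 0 := by
      have := (HomogeneousIdeal.mem_irrelevant_iff _ x).mp hx
      exact (MvPolynomial.decomposition.decompose'_apply x 0).symm.trans this
    have hxs : x ∈ Ideal.span ((MvPolynomial.X (R := R)) '' (Set.univ : Set (Fin (n + 1)))) := by
      rw [MvPolynomial.mem_ideal_span_X_image]
      intro m hm
      by_contra! hcon
      have hm0 : m = 0 := Finsupp.ext fun i => hcon i trivial
      rw [MvPolynomial.homogeneousComponent_zero, MvPolynomial.C_eq_zero] at hx0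
      exact MvPolynomial.mem_support_iff.mp hm (hm0 ▸ hx0)
    refine (Ideal.span_le.mpr ?_) hxs
    rintro - ⟨i, -, rfl⟩
    have hX : (MvPolynomial.X i : MvPolynomial (Fin (n + 1)) Z.{u}) ∈
        (HomogeneousIdeal.irrelevant (CohB1.polyGrading n Z.{u})).toIdeal :=
      HomogeneousIdeal.mem_irrelevant_of_mem _ one_pos
        ((MvPolynomial.mem_homogeneousSubmodule _ _).mpr (MvPolynomial.isHomogeneous_X _ i))
    have hX' := Ideal.mem_map_of_mem φ hX
    have he : φ (MvPolynomial.X i) = MvPolynomial.X i := MvPolynomial.map_X _ _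
    exact he ▸ hX'
  have h := Groth.Agent.S3554.result (R := R) (R' := Z.{u}) (CohB1.polyGrading n Z.{u})
    (CohB1.polyGrading n R) φ hφA hirr
  let h' : IsPullback (Proj.map φ hirr) (CohB1.ProjSpace.toSpec n R) (CohB1.ProjSpace.toSpec n Z.{u})
      (specULiftZIsTerminal.from (Spec (CommRingCat.of R))) := by
    rw [specULiftZIsTerminal.hom_ext (specULiftZIsTerminal.from (Spec (CommRingCat.of R)))
      (Spec.map (CommRingCat.ofHom (algebraMap Z.{u} R)))]
    exact h
  exact ⟨h'.isoPullback, h'.isoPullback_hom_snd⟩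

end LichtLib
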