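import Groth.Agent.LichtLib.Reduce
import Groth.Agent.DegPullLib.H0
import Groth.Agent.S0027
import Groth.Agent.S1529

/-!
# Lichtenbaum's theorem
-/

set_option autoImplicit false
set_option linter.style.haveILetI false
set_option maxHeartbeats 1000000
universe u

open CategoryTheory CategoryTheory.Limits AlgebraicGeometry TopologicalSpace Opposite

noncomputable section

namespace LichtLib

theorem le_of_lt_succ {a : WithBot ℕ∞} {e : ℕ} (h : a < ((e + 1 : ℕ) : WithBot ℕ∞)) : a ≤ (e : WithBot ℕ∞) := by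
  induction a using WithBot.recBotCoe with
  | bot => exact bot_le
  | coe a =>
    have h' : a < ((e + 1 : ℕ) : ℕ∞) := WithBot.coe_lt_coe.1 h
    rw [Nat.cast_add, Nat.cast_one, ENat.lt_coe_add_one_iff] at h'
    exact WithBot.coe_le_coe.2 h'

theorem zero_le_dim (X : Type*) [TopologicalSpace X] [Nonempty X] : (0 : WithBot ℕ∞) ≤ topologicalKrullDim X := by
  haveI : Nonempty (IrreducibleCloseds X) :=
    ⟨⟨closure {Classical.arbitrary X}, isIrreducible_singleton.closure, isClosed_closure⟩⟩
  exact Order.krullDim_nonneg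

/-- The reduced scheme on an irreducible space. -/
theorem exists_reduced (Z : Scheme.{u}) [IrreducibleSpace Z] :
    ∃ (Z' : Scheme.{u}) (r : Z' ⟶ Z), IsClosedImmersion r ∧ IsIntegral Z' ∧ Surjective r ∧
      topologicalKrullDim Z' = topologicalKrullDim Z := by
  obtain ⟨Z', r, hr, hint, hrange⟩ := DevissLib.exists_integral_closed isClosed_univ
    (IrreducibleSpace.isIrreducible_univ Z)
  refine ⟨Z', r, hr, hint, ⟨Set.range_eq_univ.1 hrange⟩, ?_⟩
  exact IsHomeomorph.topologicalKrullDim_eq _
    (isHomeomorph_iff_isEmbedding_surjective.2 ⟨r.isClosedEmbedding.isEmbedding, Set.range_eq_univ.1 hrange⟩)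

variable {k : Type u} [Field k] {X : Scheme.{u}} (f : X ⟶ Spec (CommRingCat.of k))
  [IsSeparated f] [LocallyOfFiniteType f] [QuasiCompact f]

/-- **Lichtenbaum**, vanishing. -/
theorem subsingleton_top [Nonempty X] {d : ℕ} (hd : topologicalKrullDim X ≤ ((d + 1 : ℕ) : WithBot ℕ∞))
    (h : ∀ (Z : Scheme.{u}) (i : Z ⟶ X), IsClosedImmersion i → IsIntegral Z →
      topologicalKrullDim Z = ((d + 1 : ℕ) : WithBot ℕ∞) → ¬ IsProper (i ≫ f))
    (M : X.Modules) (hM : Coh.IsCoh M) : Subsingleton (Coh.HH X M (d + 1)) := by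
  haveI : IsLocallyNoetherian X := LocallyOfFiniteType.isLocallyNoetherian f
  haveI : CompactSpace X := QuasiCompact.compactSpace_of_compactSpace f
  haveI : IsNoetherian X := {}
  refine Groth.Agent.S0027.result X (fun M => Subsingleton (Coh.HH X M (d + 1)))
    (fun A B ⟨e⟩ hA => SerreVanLib.subsingleton_HH_of_iso e.symm _ hA)
    (fun S hS _ _ _ h₁ h₃ => subsingleton_middle hS h₁ h₃) (fun Z i hi hZ I ι hι hI => ?_) M hM
  haveI := hI
  obtain ⟨e⟩ := QCohLib.nonempty_HH_push i I (d + 1)
  rw [← e.toEquiv.subsingleton_congr]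
  haveI : IsLocallyNoetherian Z := LocallyOfFiniteType.isLocallyNoetherian i
  haveI : CompactSpace Z := QuasiCompact.compactSpace_of_compactSpace (i ≫ f)
  haveI : IsNoetherian Z := {}
  by_cases hle : topologicalKrullDim Z ≤ ((d : ℕ) : WithBot ℕ∞)
  · exact CurvLib.subsingleton_HH_of_dim_le I hle (d + 1) (Nat.lt_succ_self d)
  · have heq : topologicalKrullDim Z = ((d + 1 : ℕ) : WithBot ℕ∞) :=
      le_antisymm (i.isClosedEmbedding.isInducing.topologicalKrullDim_le.trans hd)
        (not_lt.1 fun hlt => hle (le_of_lt_succ hlt))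
    exact subsingleton_ideal (i ≫ f) heq (h Z i hi hZ heq) I ι hI

/-- A proper variety has top cohomology, in all degrees. -/
theorem exists_nontrivial_top [IsIntegral X] {d : ℕ} (hd : topologicalKrullDim X = ((d : ℕ) : WithBot ℕ∞))
    (hf : IsProper f) : ∃ M : X.Modules, Coh.IsCoh M ∧ Nontrivial (Coh.HH X M d) := by
  cases d with
  | zero =>
    refine ⟨Coh.structureModule X, DevissLib.isCoh_structureModule X, ?_⟩
    haveI : Nontrivial Γ(X, ⊤) := inferInstance
    exact (DegPullLib.e0 (Coh.structureModule X)).toEquiv.nontrivial_congr.2 (inferInstanceAs (Nontrivial Γ(X, ⊤)))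
  | succ d => exact exists_nontrivial_of_proper f hd hf

/-- A proper irreducible closed subscheme of full dimension gives top cohomology. -/
theorem exists_nontrivial_of_closed {Z : Scheme.{u}} (i : Z ⟶ X) [IsClosedImmersion i] [IrreducibleSpace Z] {d : ℕ}
    (hd : topologicalKrullDim Z = ((d : ℕ) : WithBot ℕ∞)) (hp : IsProper (i ≫ f)) :
    ∃ M : X.Modules, Coh.IsCoh M ∧ Nontrivial (Coh.HH X M d) := by
  haveI : IsLocallyNoetherian X := LocallyOfFiniteType.isLocallyNoetherian f
  obtain ⟨Z', r, hr, hint, -, hdim⟩ := exists_reduced Z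
  haveI : IsProper ((r ≫ i) ≫ f) := by rw [Category.assoc]; infer_instance
  obtain ⟨M, hM, hnt⟩ := exists_nontrivial_top ((r ≫ i) ≫ f) (hdim.trans hd) inferInstance
  haveI := hM.1
  obtain ⟨e⟩ := QCohLib.nonempty_HH_push (r ≫ i) M d
  exact ⟨_, QCohLib.isCoh_push_finite (r ≫ i) M hM, e.toEquiv.nontrivial_congr.1 hnt⟩

/-- Dimension zero is proper. -/
theorem isProper_of_dim_zero (h : topologicalKrullDim X ≤ 0) : IsProper f := by
  letI : X.Over (Spec (CommRingCat.of k)) := ⟨f⟩
  haveI : LocallyOfFiniteType (X ↘ Spec (CommRingCat.of k)) := ‹LocallyOfFiniteType f›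
  haveI : QuasiCompact (X ↘ Spec (CommRingCat.of k)) := ‹QuasiCompact f›
  haveI : IsFinite f := (Groth.Agent.S1529.result k X h).2
  infer_instance

/-- The dimension of an irreducible scheme of finite type is a natural number. -/
theorem exists_dim (g : X ⟶ Spec (CommRingCat.of k)) [LocallyOfFiniteType g] [IrreducibleSpace X] :
    ∃ n : ℕ, topologicalKrullDim X = (n : WithBot ℕ∞) := by
  letI : X.Over (Spec (CommRingCat.of k)) := ⟨g⟩
  haveI : LocallyOfFiniteType (X ↘ Spec (CommRingCat.of k)) := ‹LocallyOfFiniteType g›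
  obtain ⟨s, hs, -⟩ := VarDimLib.closureDim_eq_trdeg k X (genericPoint X)
  exact ⟨s, (VarDimLib.dim_eq_closure_generic X).trans hs⟩

/-- Vanishing on an irreducible scheme which is not proper. -/
theorem subsingleton_of_not_proper [IrreducibleSpace X] {d : ℕ}
    (hd : topologicalKrullDim X = ((d + 1 : ℕ) : WithBot ℕ∞)) (hf : ¬ IsProper f)
    (M : X.Modules) (hM : Coh.IsCoh M) : Subsingleton (Coh.HH X M (d + 1)) := by
  refine subsingleton_top f hd.le (fun Z i hi hZ hZd hp => hf ?_) M hM
  have hsur : Set.range i = Set.univ := by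
    by_contra hne
    have h1 := dim_le_of_ne_univ hd.le i.isClosedEmbedding.isClosed_range hne
    rw [← i.isClosedEmbedding.isEmbedding.toHomeomorph.isHomeomorph.topologicalKrullDim_eq, hZd] at h1
    exact absurd (Nat.cast_le.1 h1) (Nat.not_succ_le_self d)
  haveI : Surjective i := ⟨Set.range_eq_univ.1 hsur⟩
  haveI := hp
  haveI : UniversallyClosed f := UniversallyClosed.of_comp_surjective i f
  exact {}

end LichtLib
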