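import Groth.Agent.LichtLib.Main
import Groth.Agent.QCohLib.OpenRestr

/-!
# The complement of an affine open in a proper variety is connected
-/

set_option autoImplicit false
set_option linter.style.haveILetI false
set_option maxHeartbeats 1000000
universe u

open CategoryTheory CategoryTheory.Limits AlgebraicGeometry TopologicalSpace Opposite

noncomputable section

namespace LichtLib

variable {k : Type u} [Field k] {X : Scheme.{u}} (f : X ⟶ Spec (CommRingCat.of k)) [IsProper f] [IrreducibleSpace X]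

include f in
theorem subsingleton_HU_of_ne_top {n : ℕ} (hd : topologicalKrullDim X = ((n + 1 : ℕ) : WithBot ℕ∞)) (V : X.Opens)
    (hV : (V : Set X).Nonempty) (hV' : V ≠ ⊤) (M : X.Modules) (hM : Coh.IsCoh M) :
    Subsingleton (QCohLib.HU ((QCohLib.toAbF X).obj M) (n + 1) V) := by
  haveI : IsLocallyNoetherian X := LocallyOfFiniteType.isLocallyNoetherian f
  haveI : CompactSpace X := QuasiCompact.compactSpace_of_compactSpace f
  haveI : IsNoetherian X := {}
  haveI : Nonempty V := hV.to_subtype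
  haveI : IrreducibleSpace (V : Scheme.{u}) :=
    { isPreirreducible_univ := ((IrreducibleSpace.isIrreducible_univ X).2.preimage V.ι.isOpenEmbedding)
      toNonempty := ‹_› }
  haveI : QuasiCompact V.ι := inferInstance
  haveI : IsSeparated (V.ι ≫ f) := inferInstance
  haveI : QuasiCompact (V.ι ≫ f) := inferInstance
  have hnp : ¬ IsProper (V.ι ≫ f) := fun h => by
    haveI := h
    haveI : IsProper V.ι := IsProper.of_comp V.ι f
    have hc : IsClosed (V : Set X) := by
      have := V.ι.isClosedMap.isClosed_range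
      rwa [Scheme.Opens.range_ι] at this
    exact hV' (Opens.ext (IsClopen.eq_univ ⟨hc, V.isOpen⟩ hV))
  have hdV : topologicalKrullDim (V : Scheme.{u}) = ((n + 1 : ℕ) : WithBot ℕ∞) :=
    (VarDimLib.dim_open_eq f V hV).trans hd
  have h := subsingleton_of_not_proper (V.ι ≫ f) hdV hnp (M.restrict V.ι) (CohGenLib.isCoh_restrict V.ι hM)
  have h' : Subsingleton (QCohLib.HU ((QCohLib.toAbF (V : Scheme.{u})).obj (M.restrict V.ι)) (n + 1) ⊤) :=
    (QCohLib.subsingleton_H_iff _ _).1 h
  obtain ⟨e⟩ := QCohLib.nonempty_HU_restrict (j := V.ι) M (n + 1) ⊤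
  rw [e.toEquiv.subsingleton_congr] at h'
  rwa [V.ι_image_top] at h'

include f in
/-- **The complement of an affine open is connected.** -/
theorem isConnected_compl {d : ℕ} (hd : topologicalKrullDim X = ((d + 2 : ℕ) : WithBot ℕ∞)) (U : X.Opens)
    (hU : IsAffineOpen U) : _root_.IsConnected ((U : Set X)ᶜ) := by
  haveI : IsLocallyNoetherian X := LocallyOfFiniteType.isLocallyNoetherian f
  obtain ⟨M₀, hM₀, hnt⟩ := exists_nontrivial_of_closed f (𝟙 X) hd (by rw [Category.id_comp]; infer_instance)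
  haveI := hM₀.1
  have hU' : U ≠ ⊤ := fun h => not_subsingleton_iff_nontrivial.2 hnt (by
    haveI : IsAffine X := by
      subst h
      haveI : IsAffine ((⊤ : X.Opens) : Scheme.{u}) := hU
      exact .of_isIso X.topIso.inv
    exact QCohLib.subsingleton_HH_affine M₀ (d + 2) (Nat.succ_pos _))
  refine ⟨Set.nonempty_compl.2 fun h => hU' (Opens.ext h), ?_⟩
  by_cases hne : (U : Set X).Nonempty
  swap
  · rw [Set.not_nonempty_iff_eq_empty.1 hne, Set.compl_empty]
    exact isPreconnected_univ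
  rw [isPreconnected_closed_iff]
  intro t t' ht ht' hsub h1 h2
  by_contra hempty
  let D₁ : Set X := (U : Set X)ᶜ ∩ t
  let D₂ : Set X := (U : Set X)ᶜ ∩ t'
  let V₁ : X.Opens := ⟨D₁ᶜ, (U.isOpen.isClosed_compl.inter ht).isOpen_compl⟩
  let V₂ : X.Opens := ⟨D₂ᶜ, (U.isOpen.isClosed_compl.inter ht').isOpen_compl⟩
  have hsup : V₁ ⊔ V₂ = ⊤ := by
    refine top_le_iff.1 fun x _ => ?_
    by_cases hx : x ∈ D₁
    · exact Or.inr fun hx' => hempty ⟨x, hx.1, hx.2, hx'.2⟩
    · exact Or.inl hx
  have hinf : V₁ ⊓ V₂ = U := by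
    refine Opens.ext (Set.ext fun x => ⟨fun hx => by_contra fun hxU => ?_, fun hx => ⟨fun h => h.1 hx, fun h => h.1 hx⟩⟩)
    rcases hsub hxU with h | h
    · exact hx.1 ⟨hxU, h⟩
    · exact hx.2 ⟨hxU, h⟩
  haveI h₁ := subsingleton_HU_of_ne_top f (n := d + 1) hd V₁ (hne.mono fun x hx h => h.1 hx)
    (fun h => by obtain ⟨x, hx⟩ := h1; exact (show x ∈ V₁ from h ▸ trivial) hx) M₀ hM₀
  haveI h₂ := subsingleton_HU_of_ne_top f (n := d + 1) hd V₂ (hne.mono fun x hx h => h.1 hx)
    (fun h => by obtain ⟨x, hx⟩ := h2; exact (show x ∈ V₂ from h ▸ trivial) hx) M₀ hM₀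
  haveI h₁₂ : Subsingleton (QCohLib.HU ((QCohLib.toAbF X).obj M₀) (d + 1) (V₁ ⊓ V₂)) := by
    rw [hinf]
    exact QCohLib.subsingleton_HU_affine M₀ d hU
  have h := QCohLib.subsingleton_sup' (F := (QCohLib.toAbF X).obj M₀) (n := d + 1) (U := V₁) (V := V₂)
  rw [hsup] at h
  exact not_subsingleton_iff_nontrivial.2 hnt ((QCohLib.subsingleton_H_iff _ _).2 h)

include f in
/-- The same, with the dimension bounded below. -/
theorem isConnected_compl' (hd : (2 : WithBot ℕ∞) ≤ topologicalKrullDim X) (U : X.Opens)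
    (hU : IsAffineOpen U) : _root_.IsConnected ((U : Set X)ᶜ) := by
  obtain ⟨n, hn⟩ := exists_dim f
  rw [hn] at hd
  have h2 : 2 ≤ n := by exact_mod_cast hd
  obtain ⟨d, rfl⟩ := Nat.exists_eq_add_of_le h2
  exact isConnected_compl f (d := d) (by rw [hn, Nat.add_comm]) U hU

end LichtLib
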