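import Groth.Agent.LichtLib.Basic
import Groth.Agent.KFlatLib.PullTensor
import Groth.Agent.HilbPolyLib.Basic
import Groth.Agent.IntMultLib.Cartier

/-!
# Morphisms of modules which are bijective on the sections over the opens inside a given open
-/

set_option autoImplicit false
set_option linter.style.haveILetI false
set_option maxHeartbeats 1000000
set_option backward.isDefEq.respectTransparency false
set_option backward.isDefEq.respectTransparency.types false
universe u

open CategoryTheory CategoryTheory.Limits AlgebraicGeometry TopologicalSpace Opposite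
open DevissLib (St gm gm_app gm_map)

noncomputable section

namespace LichtLib

variable {X : Scheme.{u}}

/-- Bijective on sections inside `U`. -/
def BijOn (U : X.Opens) {M N : X.Modules} (φ : M ⟶ N) : Prop :=
  ∀ W : X.Opens, W ≤ U → Function.Bijective (φ.app W)

theorem BijOn.comp {U : X.Opens} {L M N : X.Modules} {φ : L ⟶ M} {ψ : M ⟶ N} (hφ : BijOn U φ) (hψ : BijOn U ψ) :
    BijOn U (φ ≫ ψ) := fun W hW => (hψ W hW).comp (hφ W hW)

theorem bijOn_of_isIso (U : X.Opens) {M N : X.Modules} (φ : M ⟶ N) [IsIso φ] : BijOn U φ := fun W _ =>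
  Function.bijective_iff_has_inverse.2 ⟨(inv φ).app W,
    fun s => (congrArg (fun e : M ⟶ M => e.app W s) (IsIso.hom_inv_id φ)),
    fun s => (congrArg (fun e : N ⟶ N => e.app W s) (IsIso.inv_hom_id φ))⟩

theorem BijOn.mono {U V : X.Opens} {M N : X.Modules} {φ : M ⟶ N} (h : BijOn U φ) (hVU : V ≤ U) : BijOn V φ :=
  fun W hW => h W (hW.trans hVU)

theorem BijOn.stalk {U : X.Opens} {M N : X.Modules} {φ : M ⟶ N} (h : BijOn U φ) {x : X} (hx : x ∈ U) :
    Function.Bijective ((St x).map φ).hom := by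
  refine ⟨(injective_iff_map_eq_zero _).2 fun a ha => ?_, fun b => ?_⟩
  · obtain ⟨W, hW, s, rfl⟩ := DevissLib.exists_gm_eq M x a
    rw [gm_app, ← DevissLib.gm_zero N x hW] at ha
    obtain ⟨O, hxO, i₁, i₂, hO⟩ := N.presheaf.germ_eq x hW hW _ _ ha
    rw [map_zero] at hO
    have hle : O ⊓ U ≤ W := inf_le_left.trans i₁.le
    have h0 : φ.app (O ⊓ U) (M.presheaf.map (homOfLE hle).op s) = 0 := by
      rw [QCohLib.app_map, show homOfLE hle = homOfLE (inf_le_left (a := O) (b := U)) ≫ i₁ from Subsingleton.elim _ _,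
        ← QCohLib.map_map', hO, map_zero]
    have h1 := (h (O ⊓ U) inf_le_right).1 (h0.trans (map_zero (φ.app (O ⊓ U)).hom).symm)
    rw [← gm_map M hle x ⟨hxO, hx⟩, h1]
    exact DevissLib.gm_zero M x _
  · obtain ⟨W, hW, s, rfl⟩ := DevissLib.exists_gm_eq N x b
    obtain ⟨t, ht⟩ := (h (W ⊓ U) inf_le_right).2 (N.presheaf.map (homOfLE inf_le_left).op s)
    exact ⟨gm M x (show x ∈ W ⊓ U from ⟨hW, hx⟩) t, by rw [gm_app, ht, gm_map]⟩

theorem BijOn.push {Y : Scheme.{u}} (q : X ⟶ Y) {V : Y.Opens} {M N : X.Modules} {φ : M ⟶ N}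
    (h : BijOn (q ⁻¹ᵁ V) φ) : BijOn V ((Coh.push q).map φ) := fun W hW =>
  h (q ⁻¹ᵁ W) (q.preimage_mono hW)

theorem bijOn_iff_isIso_pullback (U : X.Opens) {M N : X.Modules} (φ : M ⟶ N) :
    BijOn U φ ↔ IsIso ((Scheme.Modules.pullback U.ι).map φ) := by
  rw [← NatIso.isIso_map_iff (Scheme.Modules.restrictFunctorIsoPullback U.ι) φ,
    Scheme.Modules.Hom.isIso_iff_isIso_app]
  constructor
  · intro h W
    rw [ConcreteCategory.isIso_iff_bijective]
    exact h (U.ι ''ᵁ W) (U.ι_image_le W)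
  · intro h W hW
    have h1 := (ConcreteCategory.isIso_iff_bijective _).1 (h (U.ι ⁻¹ᵁ W))
    have hW' : U.ι ''ᵁ U.ι ⁻¹ᵁ W = W := by
      rw [Scheme.Hom.image_preimage_eq_opensRange_inf, Scheme.Opens.opensRange_ι, inf_eq_right.2 hW]
    have h2 : Function.Bijective (φ.app (U.ι ''ᵁ U.ι ⁻¹ᵁ W)) := h1
    rwa [hW'] at h2

theorem BijOn.tensorRight {U : X.Opens} (A : X.Modules) {M N : X.Modules} {φ : M ⟶ N} (h : BijOn U φ) :
    BijOn U (((DCoh.tensorBi (X := X)).obj A).map φ) := by
  rw [bijOn_iff_isIso_pullback] at h ⊢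
  haveI := KFlatLib.isIso_pullθ U.ι A M
  haveI := KFlatLib.isIso_pullθ U.ι A N
  exact IsIso.of_isIso_fac_right (KFlatLib.pullθ_natural_right U.ι A φ)

theorem BijOn.tensorLeft {U : X.Opens} {M N : X.Modules} (A : X.Modules) {φ : M ⟶ N} (h : BijOn U φ) :
    BijOn U (((DCoh.tensorBi (X := X)).map φ).app A) := by
  rw [bijOn_iff_isIso_pullback] at h ⊢
  haveI := KFlatLib.isIso_pullθ U.ι M A
  haveI := KFlatLib.isIso_pullθ U.ι N A
  exact IsIso.of_isIso_fac_right (KFlatLib.pullθ_natural_left U.ι φ A)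

/-- The inclusion of an ideal is bijective off its support. -/
theorem bijOn_idealModι (I : X.IdealSheafData) {U : X.Opens} (h : Disjoint (U : Set X) (I.support : Set X)) :
    BijOn U (ClSub.idealModι I) := fun W hW => by
  refine ⟨IntMultLib.idealModι_app_injective I W, fun s => ?_⟩
  have hemp : I.subschemeι ⁻¹ᵁ W = ⊥ := eq_bot_iff.2 fun z hz =>
    absurd (I.range_subschemeι.le ⟨z, rfl⟩) (Set.disjoint_left.1 h (hW hz))
  have h0 : (ClSub.toSubscheme I).app W s = 0 := by
    haveI : Subsingleton Γ(I.subscheme, I.subschemeι ⁻¹ᵁ W) := by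
      rw [hemp]
      exact CommRingCat.subsingleton_of_isTerminal I.subscheme.sheaf.isTerminalOfEmpty
    exact Subsingleton.elim (α := Γ(I.subscheme, I.subschemeι ⁻¹ᵁ W)) _ _
  exact QCohLib.exists_of_app_eq_zero (ShortComplex.exact_of_f_is_kernel
    (ShortComplex.mk _ _ (kernel.condition (ClSub.toSubscheme I))) (kernelIsKernel _))
    (inferInstanceAs (Mono (kernel.ι _))) s h0

end LichtLib
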