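import Groth.Agent.LichtLib.Kill
import Groth.Agent.CohGenLib.Localization
import Groth.Agent.ModPairLib.Basic
import Groth.Agent.BlowUpLib.Strict
import Groth.Agent.BlowUpLib.Exists
import Groth.Agent.LinSysLib.BlowUp
import Groth.Agent.LinSysLib.AmpleProj
import Groth.Agent.LinSysLib.Projective
import Groth.Agent.RelProjLib.ProjAffine
import Groth.Agent.RelProjLib.ProjProper
import Groth.Agent.LichtLib.ProjOver
import Groth.Agent.LocImmLib.Modify
import Groth.Agent.EffCartLib.Basic

/-!
# Vanishing for non-proper open subvarieties of projective schemes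
-/

set_option autoImplicit false
set_option linter.style.haveILetI false
set_option maxHeartbeats 1000000
set_option backward.isDefEq.respectTransparency false
set_option backward.isDefEq.respectTransparency.types false
universe u

open CategoryTheory CategoryTheory.Limits AlgebraicGeometry TopologicalSpace Opposite
open DevissLib (St gm gm_app gm_map)

noncomputable section

namespace LichtLib

variable {X : Scheme.{u}}

theorem toRestr_stalk_surjective (F : X.Modules) (U : X.Opens) (x : X) (hx : x ∈ U) :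
    Function.Surjective ((St x).map (toRestr F U)).hom := fun a => by
  obtain ⟨W, hW, s, rfl⟩ := DevissLib.exists_gm_eq _ x a
  let W' := U.ι ''ᵁ U.ι ⁻¹ᵁ W
  have hx' : x ∈ W' := ⟨⟨x, hx⟩, hW, rfl⟩
  refine ⟨gm F x hx' (show Γ(F, W') from s), ?_⟩
  rw [gm_app, ← gm_map ((Coh.push U.ι).obj (F.restrict U.ι)) (U.ι.image_preimage_le W) x hx']
  refine congrArg (gm _ x hx') ?_
  rw [toRestr, Scheme.Modules.restrictAdjunction_unit_app_app]
  rfl

variable {k : Type u} [Field k] [X.Over (Spec (CommRingCat.of k))]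

/-- No cohomology in the top degree on the complement of a divisor in a projective variety. -/
theorem subsingleton_complement [IsNoetherian X] [IrreducibleSpace X] {N d : ℕ}
    (ι : X ⟶ CohB1.ProjSpace N k) [IsClosedImmersion ι]
    (hι : ι ≫ CohB1.ProjSpace.toSpec N k = X ↘ Spec (CommRingCat.of k))
    (hd : topologicalKrullDim X = ((d + 1 : ℕ) : WithBot ℕ∞)) (K : X.IdealSheafData)
    (hK : BlowUp.IsEffCartierIdeal K) (hne : ModPair.interior K ≠ ⊤)
    (hne' : ((ModPair.interior K : X.Opens) : Set X).Nonempty)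
    (G : (ModPair.interior K : X.Opens).toScheme.Modules) (hG : Coh.IsCoh G) :
    Subsingleton (Coh.HH (ModPair.interior K : X.Opens).toScheme G (d + 1)) := by
  let U := ModPair.interior K
  haveI := ModPairLib.isAffineHom_interior hK
  obtain ⟨F, hF, ⟨e⟩⟩ := CohGenLib.exists_extension (j := U.ι) hG
  haveI : Coh.IsQCoh (F.restrict U.ι) := (CohGenLib.isCoh_restrict (j := U.ι) hF).1
  refine SerreVanLib.subsingleton_HH_of_iso e.symm (d + 1) ?_
  obtain ⟨eq'⟩ := QCohLib.nonempty_HH_push U.ι (F.restrict U.ι) (d + 1)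
  rw [eq'.toEquiv.subsingleton_congr]
  obtain ⟨ω, t, hω⟩ := exists_isDualPair k ι hι hd
  obtain ⟨x, hx⟩ : ∃ x, x ∉ U := not_forall.1 fun h => hne (top_le_iff.1 fun z _ => h z)
  obtain ⟨V, hxV, f, -, -, hb⟩ := ModPairLib.exists_gen_basicOpen hK x
  have hVU : V.1 ⊓ U = X.basicOpen f := by rw [← hb, inf_comm]
  refine subsingleton_of_forall_eq 0 fun y => ?_
  obtain ⟨z, rfl⟩ := surjective_of_open hd.le hne' (toRestr F U)
    (fun w hw => toRestr_stalk_surjective F U w hw) y
  exact hm_toRestr_eq_zero hω hd.le U V.2 f x hxV hx hVU F hF z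

theorem subsingleton_of_open_projective {k : Type u} [Field k] {Y P : Scheme.{u}} [IsIntegral Y]
    (f : Y ⟶ Spec (CommRingCat.of k)) (j : Y ⟶ P) [IsOpenImmersion j] [IsDominant j]
    (g : P ⟶ Spec (CommRingCat.of k)) (hg : RelProj.IsProjective g) (hjg : j ≫ g = f) (hf : ¬ IsProper f)
    {d : ℕ} (hd : topologicalKrullDim Y = ((d + 1 : ℕ) : WithBot ℕ∞)) (G : Y.Modules) (hG : Coh.IsCoh G) :
    Subsingleton (Coh.HH Y G (d + 1)) := by
  haveI := RelProjLib.isProper_of_isProjective hg
  have hirr : IsIrreducible (Set.univ : Set P) := by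
    rw [← j.denseRange.closure_eq, ← Set.image_univ]
    exact ((IrreducibleSpace.isIrreducible_univ Y).image _ j.continuous.continuousOn).closure
  obtain ⟨Z, i, _, _, hiZ⟩ := DevissLib.exists_integral_closed isClosed_univ hirr
  haveI : Surjective i := ⟨Set.range_eq_univ.1 hiZ⟩
  haveI : IsIso (pullback.fst j i) := isIso_of_isClosedImmersion_of_surjective _
  let j' : Y ⟶ Z := inv (pullback.fst j i) ≫ pullback.snd j i
  have hj' : j' ≫ i = j := by
    rw [Category.assoc, ← pullback.condition, IsIso.inv_hom_id_assoc]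
  have hgi := LinSysLib.isProjective_closedImmersion_comp i hg
  haveI : IsProper (i ≫ g) := inferInstance
  haveI : IsLocallyNoetherian Z := LocallyOfFiniteType.isLocallyNoetherian (i ≫ g)
  let U₀ := j'.opensRange
  obtain ⟨y₀⟩ := (inferInstance : Nonempty Y)
  have hU₀ne : (U₀ : Set Z).Nonempty := ⟨j' y₀, y₀, rfl⟩
  have hU₀ : U₀ ≠ ⊤ := fun h => hf (by
    haveI : IsIso U₀.ι := by rw [h]; exact inferInstanceAs (IsIso Z.topIso.hom)
    haveI : IsIso j' := by rw [← Scheme.Hom.isoOpensRange_hom_ι j']; infer_instance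
    rw [← hjg, ← hj', Category.assoc]
    infer_instance)
  let J := Scheme.IdealSheafData.vanishingIdeal (⟨(U₀ : Set Z)ᶜ, U₀.isOpen.isClosed_compl⟩ : Closeds Z)
  have hJU : ModPair.interior J = U₀ := Opens.ext (by
    show ((J.support : Set Z))ᶜ = (U₀ : Set Z)
    rw [Scheme.IdealSheafData.coe_support_vanishingIdeal]
    exact compl_compl _)
  have hJ : J ≠ ⊥ := fun h => by
    obtain ⟨z, hz⟩ := hU₀ne
    rw [← hJU] at hz
    exact hz (by rw [h, Scheme.IdealSheafData.support_bot]; trivial)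
  have hJft := Groth.Agent.LocImmLib.isFiniteTypeIdeal J
  obtain ⟨P', b, hb⟩ := BlowUpLib.exists_isBlowUp Z J
  obtain ⟨_, -, -⟩ := BlowUpLib.isIntegral_of_isBlowUp hb hJ
  haveI := BlowUpLib.isProper_of_isBlowUp hb hJft
  have hP' := LinSysLib.isProjective_comp (LinSysLib.isProjective_of_isBlowUp hb hJft) hgi
  obtain ⟨N, e₀, he₀, he₀g⟩ := RelProjLib.isHProjective_of_isProjective hP'
  obtain ⟨ε, hε⟩ := exists_iso_over N k
  letI : P'.Over (Spec (CommRingCat.of k)) := ⟨b ≫ i ≫ g⟩
  let ι := e₀ ≫ ε.inv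
  have hι : ι ≫ CohB1.ProjSpace.toSpec N k = P' ↘ Spec (CommRingCat.of k) := by
    show _ = b ≫ i ≫ g
    rw [Category.assoc, ← hε, Iso.inv_hom_id_assoc, he₀g]
  haveI : IsLocallyNoetherian P' := LocallyOfFiniteType.isLocallyNoetherian (b ≫ i ≫ g)
  haveI : CompactSpace P' := QuasiCompact.compactSpace_of_compactSpace (b ≫ i ≫ g)
  haveI : IsNoetherian P' := {}
  let K := J.comap b
  have hKU : ModPair.interior K = b ⁻¹ᵁ U₀ := by rw [ModPairLib.interior_comap, hJU]
  haveI : IsIso (b ∣_ U₀) := EffCartLib.isIso_off_center J b hb U₀ hJU.ge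
  let σ : Y ≅ (ModPair.interior K).toScheme :=
    (Scheme.Hom.isoOpensRange j') ≪≫ (asIso (b ∣_ U₀)).symm ≪≫ P'.isoOfEq hKU.symm
  have hne' : ((ModPair.interior K : P'.Opens) : Set P').Nonempty := ⟨_, (σ.hom y₀).2⟩
  have hne : ModPair.interior K ≠ ⊤ := fun h => hf (by
    have hsur : IsIso (ModPair.interior K).ι := by rw [h]; exact inferInstanceAs (IsIso P'.topIso.hom)
    have hcomp : σ.hom ≫ (ModPair.interior K).ι ≫ b = j' := by
      simp only [σ, Iso.trans_hom, Iso.symm_hom, asIso_inv, Category.assoc, Scheme.isoOfEq_hom_ι_assoc]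
      rw [← morphismRestrict_ι, IsIso.inv_hom_id_assoc, Scheme.Hom.isoOpensRange_hom_ι]
    rw [← hjg, ← hj', ← hcomp]
    infer_instance)
  have hdim : topologicalKrullDim P' = ((d + 1 : ℕ) : WithBot ℕ∞) := by
    rw [← VarDimLib.dim_open_eq (b ≫ i ≫ g) (ModPair.interior K) hne', ← hd]
    exact ((Scheme.homeoOfIso σ).isHomeomorph.topologicalKrullDim_eq _).symm
  haveI := hG.1
  obtain ⟨e⟩ := QCohLib.nonempty_HH_push σ.hom G (d + 1)
  rw [e.toEquiv.subsingleton_congr]
  haveI : IsLocallyNoetherian (ModPair.interior K).toScheme :=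
    LocallyOfFiniteType.isLocallyNoetherian (ModPair.interior K).ι
  exact subsingleton_complement ι hι hdim K hb.1 hne hne' _ (QCohLib.isCoh_push_finite σ.hom G hG)

end LichtLib
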