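import Groth.Agent.LichtLib.Basic
import Groth.Agent.ExtShLib.Dualizing
import Groth.Agent.FLILib.Invertible
import Groth.Agent.GenusZeroLib.PSpace
import Groth.Agent.CurvLib.Euler

/-!
# A dualizing pair on a closed subscheme of projective space
-/

set_option autoImplicit false
set_option linter.style.haveILetI false
set_option maxHeartbeats 1000000
set_option backward.isDefEq.respectTransparency false
set_option backward.isDefEq.respectTransparency.types false
universe u

open CategoryTheory CategoryTheory.Limits AlgebraicGeometry TopologicalSpace Opposite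

noncomputable section

namespace LichtLib

variable (k : Type u) [Field k] {X : Scheme.{u}} [X.Over (Spec (CommRingCat.of k))]

/-- `ω` with `t` represents the dual of the top cohomology. -/
def IsDualPair (d : ℕ) (ω : X.Modules) (t : Coh.HH X ω d →ₗ[k] k) : Prop :=
  Coh.IsCoh ω ∧ ∀ F : X.Modules, Coh.IsCoh F → ∀ ψ : Coh.HH X F d →ₗ[k] k,
    ∃! φ : F ⟶ ω, ∀ x : Coh.HH X F d, ψ x = t (CurvLib.hMap (k := k) φ d x)

theorem exists_isDualPair {N d : ℕ} (ι : X ⟶ CohB1.ProjSpace N k) [IsClosedImmersion ι]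
    (hι : ι ≫ CohB1.ProjSpace.toSpec N k = X ↘ Spec (CommRingCat.of k))
    (hd : topologicalKrullDim X = (d : WithBot ℕ∞)) :
    ∃ (ω : X.Modules) (t : Coh.HH X ω d →ₗ[k] k), IsDualPair k d ω t := by
  let P := CohB1.ProjSpace N k
  haveI : HasInjectiveResolutions (ModSite.Mod P.sheaf) := inferInstanceAs (HasInjectiveResolutions P.Modules)
  haveI : ModSite.HasSheafHom (O := P.sheaf) (ExtShLib.pO ι) := FLI.hasSheafHom _
  have hdN : d ≤ N := by
    have h := ι.isClosedEmbedding.isInducing.topologicalKrullDim_le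
    rw [hd, GenusZeroLib.dim_projSpace] at h
    exact_mod_cast h
  let W := Twist.twistProjSpace N k (-((N : ℤ) + 1))
  let I : InjectiveResolution W := injectiveResolution W
  let ω := (ExtShLib.kcx ι I).homology (N - d)
  obtain ⟨f⟩ := ExtShLib.nonempty_push_homology ι I (N - d)
  obtain ⟨e⟩ := ExtShLib.nonempty_extSh_iso I (ExtShLib.pO ι) (N - d)
  obtain ⟨t, ht⟩ := ExtShLib.exists_trace_of_extSh k N ι hι d hdN
    (fun q hq => ExtShLib.isZero_low_of_dim_le k N ι d hd.le q hq) ω ⟨f ≪≫ e.symm⟩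
  exact ⟨ω, t, ExtShLib.isCoh_of_push_iso_extSh k N ι ω (N - d) (f ≪≫ e.symm), ht⟩

variable {k}

theorem IsDualPair.hom_ext {d : ℕ} {ω : X.Modules} {t : Coh.HH X ω d →ₗ[k] k} (hω : IsDualPair k d ω t)
    {F : X.Modules} (hF : Coh.IsCoh F) {φ φ' : F ⟶ ω}
    (h : ∀ x, t (CurvLib.hMap (k := k) φ d x) = t (CurvLib.hMap (k := k) φ' d x)) : φ = φ' :=
  (hω.2 F hF (t.comp (CurvLib.hMap (k := k) φ' d))).unique (fun x => (h x).symm) fun _ => rfl

theorem IsDualPair.eq_zero {d : ℕ} {ω : X.Modules} {t : Coh.HH X ω d →ₗ[k] k} (hω : IsDualPair k d ω t)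
    [IsLocallyNoetherian X] {F : X.Modules} (hF : Coh.IsCoh F) (φ : F ⟶ ω)
    (h : Subsingleton (Coh.HH X (Abelian.image φ) d)) : φ = 0 := by
  have hI : Coh.IsCoh (Abelian.image φ) := DevissLib.isCoh_image φ hF hω.1
  have h1 : Abelian.image.ι φ = 0 := hω.hom_ext hI fun x => by
    rw [h.elim x 0]; simp only [map_zero]
  rw [← Abelian.image.fac φ, h1, comp_zero]

end LichtLib
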