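import Groth.Agent.FRpushCmplLib.Alpha
import Groth.Agent.FRpushCmplLib.Transfer
import Groth.Agent.FormalLib.Main
import Groth.Agent.DegPullLib.H0
import Groth.Agent.DevissLib.ClosedImm
import Groth.Agent.GenFlatStrat.FGExtend
import Groth.Agent.ModGlueLib.Basic

/-!
# Functions which are deep along the preimage of an ideal lie in the ideal of the base
-/

set_option autoImplicit false
set_option linter.style.haveILetI false
set_option maxHeartbeats 1000000
universe u

open CategoryTheory CategoryTheory.Limits AlgebraicGeometry TopologicalSpace Opposite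

noncomputable section

namespace LichtLib

/-- An element of an extended ideal as an element of the smul product. -/
theorem toSec_mem {A : Type u} [CommRing A] {X : Scheme.{u}} [X.Over (Spec (CommRingCat.of A))] (J : Ideal A)
    (W : X.Opens) (x : Γ(X, W)) (hx : x ∈ J.map (FormalLib.rhoA A W)) :
    FormalLib.toSec A (Coh.structureModule X) W x ∈
      (J • ⊤ : Submodule A (FormalLib.Sec A (Coh.structureModule X) W)) := by
  have h : x ∈ (J.map (FormalLib.rhoA A W) • ⊤ : Submodule Γ(X, W) Γ(X, W)) := by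
    simpa using hx
  replace h := (FRpushCmplLib.mem_map_smul_top _ J x).1 h
  clear hx
  induction h using AddSubgroup.closure_induction with
  | mem y hy =>
    obtain ⟨a, ha, m, rfl⟩ := hy
    exact Submodule.smul_mem_smul ha (show FormalLib.toSec A (Coh.structureModule X) W m ∈ (⊤ : Submodule A _) from trivial)
  | zero => exact zero_mem _
  | add a b _ _ ha hb => exact add_mem ha hb
  | neg a _ ha => exact neg_mem ha

theorem e0_hMap {X : Scheme.{u}} {M N : X.Modules} (φ : M ⟶ N) (x : Coh.HH X M 0) :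
    DegPullLib.e0 N (Sheaf.H.map ((SheafOfModules.toSheaf X.ringCatSheaf).map φ) 0 x) =
      φ.app ⊤ (DegPullLib.e0 M x) := by
  have h1 := QCohLib.hEquiv_map ((QCohLib.toAbF X).map φ) 0 x
  have h2 := QCohLib.h0_comp (QCohLib.hEquiv ((QCohLib.toAbF X).obj M) 0 x) ((QCohLib.toAbF X).map φ)
  exact (congrArg (QCohLib.h0 (U := (⊤ : Opens X.toTopCat))) h1).trans h2

/-- The structure map to the global functions. -/
abbrev gl (A : Type u) [CommRing A] (X : Scheme.{u}) [X.Over (Spec (CommRingCat.of A))] : A →+* Γ(X, ⊤) :=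
  Coh.toGlobal (X ↘ Spec (CommRingCat.of A))

/-- For a proper scheme over a noetherian ring, global functions lying locally in a high power of an
extended ideal lie in the ideal. -/
theorem exists_deep (A : Type u) [CommRing A] [IsNoetherianRing A] (X : Scheme.{u})
    [X.Over (Spec (CommRingCat.of A))] [IsProper (X ↘ Spec (CommRingCat.of A))] (I : Ideal A) :
    ∃ c : ℕ, ∀ e, c ≤ e → ∀ s : Γ(X, ⊤),
      (∀ (W : X.Opens), IsAffineOpen W →
        X.presheaf.map (homOfLE (le_top : W ≤ ⊤)).op s ∈ (I ^ e).map (FormalLib.rhoA A W)) →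
      s ∈ I.map (gl A X) := by
  have : IsLocallyNoetherian X := LocallyOfFiniteType.isLocallyNoetherian (X ↘ Spec (CommRingCat.of A))
  obtain ⟨c, hc⟩ := FormalLib.exists_ker_bound I (DevissLib.isCoh_structureModule X) 0
  refine ⟨1 + c, fun e he s hs => ?_⟩
  let O := Coh.structureModule X
  let x : Coh.HH X O 0 := (DegPullLib.e0 O).symm s
  have h0 : FormalLib.hMapA (A := A) (Formal.modPowπ I (1 + c) O) 0 x = 0 := by
    refine (DegPullLib.e0 _).injective ?_
    rw [map_zero, FormalLib.hMapA_apply, e0_hMap, AddEquiv.apply_symm_apply]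
    refine ModGlueLib.eq_of_locally _ _ fun p _ => ?_
    obtain ⟨W, hW, hpW, -⟩ := exists_isAffineOpen_mem_and_subset (x := p) (U := (⊤ : X.Opens)) trivial
    refine ⟨W, le_top, hpW, ?_⟩
    rw [ModGlueLib.rs_zero, ← ModGlueLib.app_rs]
    refine FormalLib.secMap_modPowπ_eq_zero (A := A) O I (1 + c) W (x := FormalLib.toSec A O W _) ?_
    exact Submodule.smul_mono_left (Ideal.pow_le_pow_right he) (toSec_mem _ W _ (hs W hW))
  have h1 : x ∈ (I • ⊤ : Submodule A (Coh.HH X O 0)) := by simpa using hc 1 x h0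
  have h2 : ∀ w ∈ (I • ⊤ : Submodule A (Coh.HH X O 0)),
      (show Γ(X, ⊤) from DegPullLib.e0 O w) ∈ I.map (gl A X) := by
    intro w hw
    refine Submodule.smul_induction_on hw (fun a ha m _ => ?_) fun y z hy hz => ?_
    · have h3 := DegPullLib.e0_smul O (Coh.toGlobal (X ↘ Spec (CommRingCat.of A)) a) m
      refine (show (show Γ(X, ⊤) from DegPullLib.e0 O (a • m)) = _ from h3).symm ▸ ?_
      exact Ideal.mul_mem_right _ _ (Ideal.mem_map_of_mem (gl A X) ha)
    · rw [map_add]
      exact Ideal.add_mem _ hy hz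
  have h4 := h2 x h1
  rwa [show DegPullLib.e0 O x = s from AddEquiv.apply_symm_apply _ _] at h4

variable {X' X : Scheme.{u}} [IsNoetherian X] [IsNoetherian X'] (q : X' ⟶ X) [IsProper q]

/-- Sections of a high power of the extended ideal over the preimage of an affine open lie in the
extension of the ideal. -/
theorem exists_pow_mem (𝓝 : X.IdealSheafData) (V : X.affineOpens) :
    ∃ c : ℕ, ∀ e, c ≤ e → ∀ t : Γ(ClSub.idealMod ((𝓝.comap q) ^ e), q ⁻¹ᵁ V.1),
      OmegaSh.fnSect X' (q ⁻¹ᵁ V.1) ((ClSub.idealModι ((𝓝.comap q) ^ e)).app (q ⁻¹ᵁ V.1) t) ∈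
        (𝓝.ideal V).map (q.app V.1).hom := by
  letI := FRpushCmplLib.overW q V.2
  haveI := FRpushCmplLib.isProper_overW q V.2
  haveI : IsNoetherianRing Γ(X, V.1) := IsLocallyNoetherian.component_noetherian V
  let U : X'.Opens := q ⁻¹ᵁ V.1
  obtain ⟨c, hc⟩ := exists_deep Γ(X, V.1) (U : Scheme.{u}) (𝓝.ideal V)
  refine ⟨c, fun e he t => ?_⟩
  let s : Γ(X', U) := OmegaSh.fnSect X' U ((ClSub.idealModι ((𝓝.comap q) ^ e)).app U t)
  have h := hc e he (U.topIso.inv s) fun W hW => by
    let W' : X'.Opens := U.ι ''ᵁ W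
    have hW' : IsAffineOpen W' := hW.image_of_isOpenImmersion U.ι
    have hle : W' ≤ U := U.ι_image_le W
    have hmem : X'.presheaf.map (homOfLE hle).op s ∈ ((𝓝.comap q) ^ e).ideal ⟨W', hW'⟩ := by
      have h5 := GenFlatStrat.idealModι_mem ((𝓝.comap q) ^ e) ⟨W', hW'⟩
        ((ClSub.idealMod ((𝓝.comap q) ^ e)).presheaf.map (homOfLE hle).op t)
      rw [QCohLib.app_map] at h5
      exact h5
    rw [FRpushCmplLib.powIdeal, ← RGFlatLib.ideal_comap_appLE q 𝓝 V.2 hW' hle, ← Ideal.map_pow] at hmem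
    have hρ : (FormalLib.rhoA Γ(X, V.1) W) = (q.appLE V.1 W' hle).hom := RingHom.ext fun a => by
      have h6 := FRpushCmplLib.rhoA_overW q V.2 W a
      rw [Scheme.Opens.ι_appIso] at h6
      exact h6
    rw [hρ]
    have e1 : (U : Scheme.{u}).presheaf.map (homOfLE (le_top : W ≤ ⊤)).op (U.topIso.inv s) =
        X'.presheaf.map (homOfLE hle).op s := by
      refine (X'.presheaf.map_comp_apply _ _ s).symm.trans ?_
      exact congr($(congrArg X'.presheaf.map (Subsingleton.elim _ _)) s)
    exact e1.symm ▸ hmem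
  have h7 := Ideal.mem_map_of_mem U.topIso.hom.hom h
  rw [Ideal.map_map, Iso.inv_hom_id_apply] at h7
  have h8 : U.topIso.hom.hom.comp (Coh.toGlobal ((U : Scheme.{u}) ↘ Spec (CommRingCat.of Γ(X, V.1)))) =
      (q.app V.1).hom := RingHom.ext fun a => by
    show U.topIso.hom (Coh.toGlobal (q.resLE V.1 U le_rfl ≫ V.2.isoSpec.hom) a) = _
    rw [FRpushCmplLib.toGlobal_overW q V.2, Iso.inv_hom_id_apply, Scheme.Hom.app_eq_appLE]
  rw [h8] at h7
  exact h7

end LichtLib
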