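import Groth.Agent.LichtLib.Dual
import Groth.Agent.QCohLib.Push
import Groth.Agent.QCohLib.Coherent
import Groth.Agent.QCohLib.AffineFinite
import Groth.Agent.QCohLib.Vanishing
import Mathlib.RingTheory.Filtration

/-!
# Top cohomology on the complement of a principal divisor dies
-/

set_option autoImplicit false
set_option linter.style.haveILetI false
set_option maxHeartbeats 1000000
set_option backward.isDefEq.respectTransparency false
set_option backward.isDefEq.respectTransparency.types false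
universe u

open CategoryTheory CategoryTheory.Limits AlgebraicGeometry TopologicalSpace Opposite
open DevissLib (St gm gm_app gm_smul gm_map gm_zero)

noncomputable section

namespace LichtLib

variable {X : Scheme.{u}}

/-- Restriction to an open, as a morphism to the direct image. -/
def toRestr (F : X.Modules) (U : X.Opens) : F ⟶ (Coh.push U.ι).obj (F.restrict U.ι) :=
  (Scheme.Modules.restrictAdjunction U.ι).unit.app F

/-- A morphism killing the sections over an affine open up to a unit at a point vanishes on the stalk. -/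
theorem stalkMap_eq_zero {F G : X.Modules} [Coh.IsQCoh F] (hF : CohB1.IsFT F) (φ : F ⟶ G) {V : X.Opens}
    (hV : IsAffineOpen V) (x : X) (hx : x ∈ V) (h : ∀ s : Γ(F, V), gm G x hx (φ.app V s) = 0)
    (a : (St x).obj F) : ((St x).map φ).hom a = 0 := by
  classical
  haveI := QCohLib.finite_of_isFT hF hV
  obtain ⟨n, g, hg⟩ := Module.Finite.exists_fin (R := Γ(X, V)) (M := Γ(F, V))
  have hgen := QCohLib.genOn_of_span hV (M := F) (fun i : ULift.{u} (Fin n) => g i.down)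
    (by rw [← hg]; congr 1; exact Set.ext fun s => ⟨fun ⟨i, hi⟩ => ⟨i.down, hi⟩, fun ⟨i, hi⟩ => ⟨⟨i⟩, hi⟩⟩)
  obtain ⟨W, hW, s, rfl⟩ := DevissLib.exists_gm_eq F x a
  obtain ⟨O, hO, hOV, hxO, c, hc⟩ :=
    hgen (W ⊓ V) inf_le_right (F.presheaf.map (homOfLE inf_le_left).op s) x ⟨hW, hx⟩
  rw [QCohLib.map_map'] at hc
  rw [← gm_map F (hO.trans inf_le_left) x hxO,
    show F.presheaf.map (homOfLE (hO.trans inf_le_left)).op s = _ from hc]
  rw [show gm F x hxO (∑ i, c i • F.presheaf.map (homOfLE hOV).op (g i.down)) =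
      ∑ i, gm F x hxO (c i • F.presheaf.map (homOfLE hOV).op (g i.down)) from
    map_sum (F.presheaf.germ O x hxO).hom _ _, map_sum]
  refine Finset.sum_eq_zero fun i _ => ?_
  rw [gm_smul, map_smul, gm_map, gm_app, h, smul_zero]

theorem exists_sub_through' [IsNoetherian X] {Q : X.Modules} [Coh.IsQCoh Q] {V : X.Opens} (q : Γ(Q, V)) :
    ∃ (H : X.Modules) (i : H ⟶ Q), Mono i ∧ Coh.IsCoh H ∧ ∃ t : Γ(H, V), i.app V t = q := by
  have hcanon : QCohLib.LocSub.Canon (QCohLib.LocSub.span Q V fun _ : ULift.{u} (Fin 1) => q) V := by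
    intro W a ha p hp hpU
    obtain ⟨O, hO, hOU, hpO, c, hc⟩ := ha p ⟨hp, hpU⟩ hpU
    rw [QCohLib.map_map'] at hc
    exact ⟨O, hO.trans inf_le_left, hOU, hpO, c, hc⟩
  have hft : QCohLib.LocSub.FTBelow (QCohLib.LocSub.span Q V fun _ : ULift.{u} (Fin 1) => q) V :=
    fun p hp => ⟨V, le_rfl, hp, 1, fun _ => q, fun i => QCohLib.LocSub.span_self _ i, fun W _ a ha => ha⟩
  obtain ⟨S, hS, hagree⟩ := QCohLib.LocSub.exists_ftExtension
    (fun W O _ => TopologicalSpace.NoetherianSpace.isCompact _) V _ hcanon hft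
  have hs : S.mem V q := (hagree V le_rfl q).mpr (QCohLib.LocSub.span_self _ ⟨0⟩)
  exact ⟨S.toModules, S.ι, inferInstance,
    ⟨QCohLib.LocSub.isQCoh_toModules S hS, QCohLib.LocSub.isFT_toModules S hS⟩, S.lift q hs, S.ι_lift q hs⟩

theorem isCoh_image' [IsLocallyNoetherian X] {A B : X.Modules} (φ : A ⟶ B) (hA : Coh.IsCoh A)
    (hB : Coh.IsQCoh B) : Coh.IsCoh (Abelian.image φ) := by
  haveI := hA.1
  haveI := hB
  exact ⟨QCohLib.isQCoh_image φ, QCohLib.isFT_of_epi (Abelian.factorThruImage φ) hA.2⟩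

/-- The coherent subsheaf spanned by two. -/
theorem exists_sup [IsLocallyNoetherian X] {Q H₁ H₂ : X.Modules} [Coh.IsQCoh Q] (i₁ : H₁ ⟶ Q) (i₂ : H₂ ⟶ Q)
    (h₁ : Coh.IsCoh H₁) (h₂ : Coh.IsCoh H₂) :
    ∃ (H : X.Modules) (i : H ⟶ Q) (a₁ : H₁ ⟶ H) (a₂ : H₂ ⟶ H),
      Mono i ∧ Coh.IsCoh H ∧ a₁ ≫ i = i₁ ∧ a₂ ≫ i = i₂ := by
  let δ := biprod.desc i₁ i₂
  refine ⟨Abelian.image δ, Abelian.image.ι δ, biprod.inl ≫ Abelian.factorThruImage δ,
    biprod.inr ≫ Abelian.factorThruImage δ, inferInstance,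
    isCoh_image' δ (DevissLib.isCoh_biprod h₁ h₂) ‹_›, ?_, ?_⟩
  · rw [Category.assoc, Abelian.image.fac, biprod.inl_desc]
  · rw [Category.assoc, Abelian.image.fac, biprod.inr_desc]

variable {k : Type u} [Field k] [X.Over (Spec (CommRingCat.of k))]

/-- **The killing lemma.** -/
theorem hm_toRestr_eq_zero [IsNoetherian X] [IrreducibleSpace X] {d : ℕ} {ω : X.Modules}
    {t : Coh.HH X ω (d + 1) →ₗ[k] k} (hω : IsDualPair k (d + 1) ω t)
    (hd : topologicalKrullDim X ≤ (d + 1 : ℕ)) (U : X.Opens) [IsAffineHom U.ι]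
    {V : X.Opens} (hV : IsAffineOpen V) (f : Γ(X, V)) (x : X) (hxV : x ∈ V) (hxU : x ∉ U)
    (hVU : V ⊓ U = X.basicOpen f) (F : X.Modules) (hF : Coh.IsCoh F) (y : Coh.HH X F (d + 1)) :
    hm (toRestr F U) (d + 1) y = 0 := by
  haveI := hF.1
  haveI := hω.1.1
  let Q := (Coh.push U.ι).obj (F.restrict U.ι)
  haveI : Coh.IsQCoh Q := QCohLib.isQCoh_pushforward U.ι (F.restrict U.ι)
  let u : F ⟶ Q := toRestr F U
  let ι' := {S : Σ H : X.Modules, (H ⟶ Q) × (F ⟶ H) // Coh.IsCoh S.1 ∧ Mono S.2.1 ∧ S.2.2 ≫ S.2.1 = u}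
  let H₀ : ι' := ⟨⟨Abelian.image u, Abelian.image.ι u, Abelian.factorThruImage u⟩,
    isCoh_image' u hF inferInstance, (inferInstance : Mono (Abelian.image.ι u)), Abelian.image.fac u⟩
  have hsup : ∀ (S : ι') {H : X.Modules} (i : H ⟶ Q), Coh.IsCoh H → ∃ (T : ι') (a : S.1.1 ⟶ T.1.1)
      (b : H ⟶ T.1.1), S.1.2.2 ≫ a = T.1.2.2 ∧ b ≫ T.1.2.1 = i := by
    intro S H i hH
    obtain ⟨H', i', a, b, hi', hH', ha, hb⟩ := exists_sup S.1.2.1 i S.2.1 hH
    exact ⟨⟨⟨H', i', S.1.2.2 ≫ a⟩, hH', hi', by rw [Category.assoc, ha]; exact S.2.2.2⟩, a, b, rfl, hb⟩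
  let K : ι' → Submodule k (Coh.HH X F (d + 1)) := fun S =>
    LinearMap.ker (CurvLib.hMap (k := k) S.1.2.2 (d + 1))
  haveI : Nonempty ι' := ⟨H₀⟩
  have hdir : Directed (· ≤ ·) K := fun S S' => by
    obtain ⟨T, a, b, ha, hb⟩ := hsup S S'.1.2.1 S'.2.1
    refine ⟨T, ?_, ?_⟩
    · intro z hz
      rw [LinearMap.mem_ker] at hz ⊢
      rw [← ha, CurvLib.hMap_comp, hz, map_zero]
    · intro z hz
      rw [LinearMap.mem_ker] at hz ⊢
      have : S'.1.2.2 ≫ b = T.1.2.2 := by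
        haveI := T.2.2.1
        rw [← cancel_mono T.1.2.1, Category.assoc, hb]
        exact S'.2.2.2.trans T.2.2.2.symm
      rw [← this, CurvLib.hMap_comp, hz, map_zero]
  by_contra hy
  have hnot : y ∉ ⨆ S, K S := fun h => by
    obtain ⟨S, hS⟩ := (Submodule.mem_iSup_of_directed K hdir).1 h
    refine hy ?_
    show hm u (d + 1) y = 0
    rw [← S.2.2.2, hm_comp, show hm S.1.2.2 (d + 1) y = 0 from LinearMap.mem_ker.1 hS, map_zero]
  obtain ⟨ψ, hψy, hψK⟩ := Submodule.exists_le_ker_of_notMem hnot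
  obtain ⟨φ, hφ, -⟩ := hω.2 F hF ψ
  have hext : ∀ S : ι', ∃ φ' : S.1.1 ⟶ ω, S.1.2.2 ≫ φ' = φ := fun S => by
    have hmem : ψ ∈ (K S).dualAnnihilator :=
      (Submodule.mem_dualAnnihilator _).2 fun z hz => LinearMap.mem_ker.1 (hψK (le_iSup K S hz))
    rw [← LinearMap.range_dualMap_eq_dualAnnihilator_ker] at hmem
    obtain ⟨ψ', hψ'⟩ := hmem
    obtain ⟨φ', hφ', -⟩ := hω.2 S.1.1 S.2.1 ψ'
    refine ⟨φ', hω.hom_ext hF fun z => ?_⟩
    rw [CurvLib.hMap_comp, ← hφ', ← hφ, ← hψ']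
    rfl
  refine hψy ?_
  have key : ∀ (s : Γ(F, V)) (m : ℕ), φ.app V s ∈ ((Ideal.span {f}) ^ m • ⊤ : Submodule Γ(X, V) Γ(ω, V)) := by
    intro s m
    have hu : IsUnit (U.ι.app V f) := by
      have h1 : U.ι ⁻¹ᵁ V ≤ (U : Scheme.{u}).basicOpen (U.ι.app V f) := by
        rw [← Scheme.preimage_basicOpen, ← hVU]
        exact fun z hz => ⟨hz, z.2⟩
      have h2 := QCohLib.isUnit_res (X := (U : Scheme.{u})) (U.ι.app V f) h1
      have h3 : ∀ z : Γ((U : Scheme.{u}), U.ι ⁻¹ᵁ V),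
          (U : Scheme.{u}).presheaf.map (homOfLE (le_refl (U.ι ⁻¹ᵁ V))).op z = z := fun z =>
        congrArg (fun e : Γ((U : Scheme.{u}), U.ι ⁻¹ᵁ V) ⟶ _ => e z) ((U : Scheme.{u}).presheaf.map_id _)
      obtain ⟨w, hw⟩ := h2
      exact ⟨w, hw.trans (h3 _)⟩
    obtain ⟨c, hc⟩ := (hu.pow m).exists_left_inv
    let q : Γ(Q, V) := (c • (show Γ(F.restrict U.ι, U.ι ⁻¹ᵁ V) from u.app V s) :)
    have hq : f ^ m • q = u.app V s := by
      refine (QCohLib.push_smul U.ι (F.restrict U.ι) (f ^ m) _).trans ?_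
      rw [map_pow, smul_smul, mul_comm, hc, one_smul]
    obtain ⟨H, i, hi, hH, w, hw⟩ := exists_sub_through' (Q := Q) q
    obtain ⟨T, a, b, -, hb⟩ := hsup H₀ i hH
    obtain ⟨φ', hφ'⟩ := hext T
    haveI := T.2.2.1
    have h1 : T.1.2.2.app V s = f ^ m • b.app V w := by
      apply QCohLib.app_injective_of_mono T.1.2.1 V
      rw [QCohLib.app_smul]
      refine (congrArg (fun e : F ⟶ Q => e.app V s) T.2.2.2).trans (hq.symm.trans ?_)
      rw [← hw]
      exact congrArg (f ^ m • ·) (congrArg (fun e : H ⟶ Q => e.app V w) hb).symm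
    rw [← hφ']
    change φ'.app V (T.1.2.2.app V s) ∈ _
    rw [h1, QCohLib.app_smul]
    exact Submodule.smul_mem_smul (Ideal.pow_mem_pow (Ideal.mem_span_singleton_self f) m) Submodule.mem_top
  haveI : IsNoetherianRing Γ(X, V) := IsLocallyNoetherian.component_noetherian ⟨V, hV⟩
  haveI := QCohLib.finite_of_isFT hω.1.2 hV
  have hxf : x ∉ X.basicOpen f := fun h => hxU (hVU.symm.le h).2
  have hgerm : ∀ s : Γ(F, V), gm ω x hxV (φ.app V s) = 0 := fun s => by
    obtain ⟨r, hr⟩ := (Ideal.mem_iInf_smul_pow_eq_bot_iff (Ideal.span {f}) (φ.app V s)).1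
      ((Submodule.mem_iInf _).2 fun m => key s m)
    have h0 : (1 - (r : Γ(X, V))) • φ.app V s = 0 := by rw [sub_smul, one_smul, hr, sub_self]
    have h1 := congrArg (gm ω x hxV) h0
    rw [gm_smul, gm_zero] at h1
    refine (IsUnit.smul_eq_zero ?_).1 h1
    rw [map_sub, map_one]
    refine IsLocalRing.isUnit_one_sub_self_of_mem_nonunits _ ?_
    intro hu
    obtain ⟨c, hc⟩ := Ideal.mem_span_singleton'.1 r.2
    refine hxf ((Scheme.mem_basicOpen X f x hxV).2 ?_)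
    rw [← hc, map_mul] at hu
    exact isUnit_of_mul_isUnit_right hu
  have hI : Coh.IsCoh (Abelian.image φ) := DevissLib.isCoh_image φ hF hω.1
  have hxI : x ∉ CohB1.support (Abelian.image φ) := fun hxs => by
    obtain ⟨a, ha⟩ := (DevissLib.mem_support_iff_nonzero _ x).1 hxs
    obtain ⟨b, rfl⟩ :=
      (ModuleCat.epi_iff_surjective ((St x).map (Abelian.factorThruImage φ))).1 inferInstance a
    refine ha ((ModuleCat.mono_iff_injective ((St x).map (Abelian.image.ι φ))).1 inferInstance ?_)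
    rw [map_zero]
    change (((St x).map (Abelian.factorThruImage φ)) ≫ ((St x).map (Abelian.image.ι φ))).hom b = 0
    rw [← Functor.map_comp, Abelian.image.fac]
    exact stalkMap_eq_zero hF.2 φ hV x hxV hgerm b
  have hT := QCohLib.isClosed_support _ hI.2
  have hsub : Subsingleton (Coh.HH X (Abelian.image φ) (d + 1)) :=
    subsingleton_of_support hT (dim_le_of_ne_univ hd hT fun h => hxI (h ▸ Set.mem_univ x)) _
      fun z hz => not_not.1 hz
  rw [hφ, hω.eq_zero hF φ hsub]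
  show t (hm (0 : F ⟶ ω) (d + 1) y) = 0
  rw [hm_zero, map_zero]

end LichtLib
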