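import Groth.Agent.LichtLib.Basic
import Groth.Agent.PnDualLib.Embed
import Groth.Agent.PnDualLib.Duality
import Groth.Agent.DimIneqLib.Dim
import Groth.Agent.AVAmpleLib.Degree
import Groth.Agent.LocCohLib.NonVanishing

/-!
# The top cohomology of a projective variety does not vanish identically
-/

set_option autoImplicit false
set_option linter.style.haveILetI false
set_option maxHeartbeats 1000000
set_option backward.isDefEq.respectTransparency false
universe u

open CategoryTheory CategoryTheory.Limits AlgebraicGeometry TopologicalSpace Opposite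
open IsLocalRing (maximalIdeal)

noncomputable section

namespace LichtLib

theorem exists_closed_stalk_dim {X : Scheme.{u}} [IsLocallyNoetherian X] {d : ℕ}
    (hd : topologicalKrullDim X = (d : WithBot ℕ∞)) :
    ∃ x : X, IsClosed ({x} : Set X) ∧ ringKrullDim (X.presheaf.stalk x) = (d : WithBot ℕ∞) := by
  obtain ⟨x, hx⟩ := DimIneqLib.exists_stalk_of_chain hd.ge
  have hxd := le_antisymm ((DimIneqLib.stalk_dim_le_dim x).trans hd.le) hx
  refine ⟨x, closure_eq_iff_isClosed.1 (Set.Subset.antisymm (fun y hy => ?_) subset_closure), hxd⟩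
  by_contra hne
  have h := FibDimLib.ringKrullDim_stalk_lt (specializes_iff_mem_closure.2 hy) fun e => hne e.symm
  rw [hxd] at h
  exact not_lt.2 ((DimIneqLib.stalk_dim_le_dim y).trans hd.le) h

variable {k : Type u} [Field k]

/-- A projective scheme of dimension `d` has a coherent module with cohomology in degree `d`. -/
theorem exists_nontrivial_of_projective {X : Scheme.{u}} {N d : ℕ} (ι : X ⟶ CohB1.ProjSpace N k)
    [IsClosedImmersion ι] (hd : topologicalKrullDim X = (d : WithBot ℕ∞)) :
    ∃ M : X.Modules, Coh.IsCoh M ∧ Nontrivial (Coh.HH X M d) := by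
  haveI := PnCohLib.isLocallyNoetherian_projSpace (n := N) k
  haveI : IsLocallyNoetherian X := LocallyOfFiniteType.isLocallyNoetherian ι
  by_contra! h
  let O := Coh.structureModule X
  have hO : Coh.IsCoh O := DevissLib.isCoh_structureModule X
  have h' := fun (M : X.Modules) (hM : Coh.IsCoh M) => h M hM
  have hev := (PnDualLib.eventually_iff_H_all k N ((Coh.push ι).obj O) (PnDualLib.isCoh_push' ι hO) d).1
    ⟨0, fun m _ => (PnDualLib.subsingleton_twistBy_iff k N _ _ d).2 ((PnDualLib.subsingleton_HH_iff ι O hO (-m) d).1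
      (h' _ (SerreVanLib.isCoh_tensor hO (PnDualLib.isInvertible_oX ι (-m)))))⟩
  obtain ⟨x, hx, hxd⟩ := exists_closed_stalk_dim hd
  have hy : IsClosed ({ι x} : Set (CohB1.ProjSpace N k)) := by
    rw [← Set.image_singleton]
    exact ι.isClosedEmbedding.isClosedMap _ hx
  let A := (CohB1.ProjSpace N k).presheaf.stalk (ι x)
  let B := X.presheaf.stalk x
  letI : Algebra A B := (ι.stalkMap x).hom.toAlgebra
  letI : Module A (O.presheaf.stalk x) := Module.compHom _ (ι.stalkMap x).hom
  haveI : IsScalarTower A B (O.presheaf.stalk x) := IsScalarTower.of_compHom _ _ _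
  let σ := (TopCat.Presheaf.stalkPushforward AddCommGrpCat ι.base O.presheaf x).hom
  let σ' : ((Coh.push ι).obj O).presheaf.stalk (ι x) →ₗ[A] O.presheaf.stalk x :=
    { toFun := fun a => σ a
      map_add' := fun a b => map_add σ a b
      map_smul' := fun c a => DegPullLib.stalkPushforward_smul ι O x c a }
  let e := LinearEquiv.ofBijective σ' (DegPullLib.bijective_stalkPushforward ι ι.isClosedEmbedding.isClosedMap
    O x fun w hw => ι.isClosedEmbedding.injective hw)
  obtain ⟨e₂⟩ := AVAmpleLib.nonempty_stalk_structureModule X x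
  let e₂' : O.presheaf.stalk x ≃ₗ[A] B := e₂.symm.restrictScalars A
  have hs : Function.Surjective (algebraMap A B) := ι.stalkMap_surjective x
  let q : (A ⧸ RingHom.ker (algebraMap A B)) ≃ₗ[A] B :=
    (Algebra.linearMap A B).quotKerEquivOfSurjective hs
  haveI := (PnDualLib.isCoh_push' ι hO).1
  haveI : Module.Finite A (((Coh.push ι).obj O).presheaf.stalk (ι x)) :=
    DepthLib.finite_stalk _ (PnDualLib.isCoh_push' ι hO).2 _
  have hsupp : Module.supportDim A (((Coh.push ι).obj O).presheaf.stalk (ι x)) = (d : WithBot ℕ∞) := by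
    rw [Module.supportDim_eq_of_equiv ((e.trans e₂').trans q.symm)]
    rw [Module.supportDim_quotient_eq_ringKrullDim (R := A) (RingHom.ker (algebraMap A B)), ← hxd]
    exact ringKrullDim_eq_of_ringEquiv (RingHom.quotientKerEquivOfSurjective hs)
  exact not_subsingleton_iff_nontrivial.2 (LocCohLib.nonvanishing d _ hsupp).1 (hev (ι x) hy)

end LichtLib
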