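import Groth.Agent.LichtLib.BijOn
import Groth.Agent.LichtLib.FF
import Groth.Agent.LichtLib.Ample
import Groth.Agent.LichtLib.Quasi
import Groth.Agent.LichtLib.Nonvan
import Groth.Agent.LichtLib.ProjOver
import Groth.Agent.DevissLib.AnnIdeal
import Groth.Agent.FormalCohLib.Counit
import Groth.Agent.PicPnLib.BaseChange
import Groth.Agent.EffCartLib.Basic
import Groth.Agent.S17383
import Groth.Agent.S2337

/-!
# Reduction of Lichtenbaum's theorem to the quasi-projective case
-/

set_option autoImplicit false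
set_option linter.style.haveILetI false
set_option maxHeartbeats 1000000
set_option backward.isDefEq.respectTransparency false
set_option backward.isDefEq.respectTransparency.types false
universe u

open CategoryTheory CategoryTheory.Limits AlgebraicGeometry TopologicalSpace Opposite
open DevissLib (St gm gm_app gm_map)

noncomputable section

namespace LichtLib

/-- Powers of an ideal map to the functions, bijectively off the support. -/
theorem exists_tensorPow_hom {X : Scheme.{u}} (I : X.IdealSheafData) (U : X.Opens)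
    (h : Disjoint (U : Set X) (I.support : Set X)) :
    ∀ n : ℕ, ∃ ε : CohB1.tensorPow (ClSub.idealMod I) n ⟶ Coh.structureModule X, BijOn U ε
  | 0 => ⟨𝟙 _, bijOn_of_isIso U (𝟙 _)⟩
  | n + 1 => by
    obtain ⟨ε, hε⟩ := exists_tensorPow_hom I U h n
    exact ⟨((DCoh.tensorBi (X := X)).map ε).app (ClSub.idealMod I) ≫
      ((DCoh.tensorBi (X := X)).obj (Coh.structureModule X)).map (ClSub.idealModι I) ≫
      (PicPnLib.unitRight (Coh.structureModule X)).hom,
      (hε.tensorLeft _).comp (((bijOn_idealModι I h).tensorRight _).comp (bijOn_of_isIso U _))⟩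

theorem eq_zero_of_stalk {X : Scheme.{u}} {M N : X.Modules} (φ : M ⟶ N)
    (h : ∀ (x : X) (a : (St x).obj M), ((St x).map φ).hom a = 0) : φ = 0 := by
  refine Scheme.Modules.hom_ext _ _ fun W => ConcreteCategory.hom_ext _ _ fun s => ?_
  refine TwistLib.mod_ext N fun x hx => ?_
  show gm N x hx (φ.app W s) = gm N x hx ((0 : M ⟶ N).app W s)
  rw [← gm_app, ← gm_app, h x, Functor.map_zero]
  rfl

/-- A proper blow-up of a variety, open in a projective scheme. -/
structure Model (k : Type u) [Field k] {X : Scheme.{u}} (f : X ⟶ Spec (CommRingCat.of k)) (d : ℕ) where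
  U : X.Opens
  nonempty : (U : Set X).Nonempty
  ideal : X.IdealSheafData
  X' : Scheme.{u}
  P : Scheme.{u}
  q : X' ⟶ X
  j : X' ⟶ P
  g : P ⟶ Spec (CommRingCat.of k)
  blow : BlowUp.IsBlowUp q ideal
  adm : BlowUp.IsAdmissibleFor U ideal
  proj : RelProj.IsProjective g
  openImm : IsOpenImmersion j
  dominant : IsDominant j
  comm : j ≫ g = q ≫ f
  integral : IsIntegral X'
  proper : IsProper q
  iso : IsIso (q ∣_ U)
  surj : Surjective q
  noeth : IsNoetherian X'
  dim : topologicalKrullDim X' = ((d : ℕ) : WithBot ℕ∞)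

theorem exists_model {k : Type u} [Field k] {X : Scheme.{u}} (f : X ⟶ Spec (CommRingCat.of k)) [IsIntegral X]
    [IsSeparated f] [LocallyOfFiniteType f] [QuasiCompact f] {d : ℕ}
    (hd : topologicalKrullDim X = ((d : ℕ) : WithBot ℕ∞)) : Nonempty (Model k f d) := by
  obtain ⟨x⟩ := (inferInstance : Nonempty X)
  obtain ⟨U, hU, hxU, -⟩ := exists_isAffineOpen_mem_and_subset (x := x) (U := (⊤ : X.Opens)) trivial
  have hne : (U : Set X).Nonempty := ⟨x, hxU⟩
  haveI : IsAffine (U : Scheme.{u}) := hU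
  haveI : CompactSpace (U : Scheme.{u}) := isCompact_iff_compactSpace.mp hU.isCompact
  haveI : QuasiCompact (U.ι ≫ f) := inferInstance
  have hqa : Mor2.IsQuasiAffine (U.ι ≫ f) := ⟨inferInstance, fun V hV => by
    haveI : IsAffine ((U.ι ≫ f) ⁻¹ᵁ V : (U : Scheme.{u}).Opens) := hV.preimage (U.ι ≫ f)
    infer_instance⟩
  have hq : RelProj.IsQuasiProjective (U.ι ≫ f) :=
    ⟨inferInstance, inferInstance, _, (Groth.Agent.S2337.result (U.ι ≫ f)).1 hqa⟩
  obtain ⟨𝓘, X', P, q, j, g, hb, hadm, hg, hj, hjd, hjg⟩ :=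
    Groth.Agent.S17383.result f U hU.isCompact (U.isOpen.dense hne) hq
  have h𝓘 : 𝓘 ≠ ⊥ := fun h => Set.disjoint_left.1 hadm.2 (by rw [h, Scheme.IdealSheafData.support_bot]; trivial) hxU
  obtain ⟨hint, -, -⟩ := BlowUpLib.isIntegral_of_isBlowUp hb h𝓘
  haveI := BlowUpLib.isProper_of_isBlowUp hb hadm.1
  have hUI : U ≤ ModPair.interior 𝓘 := fun z hz h => Set.disjoint_left.1 hadm.2 h hz
  haveI : IsIso (q ∣_ U) := EffCartLib.isIso_off_center 𝓘 q hb U hUI
  have hrange : (U : Set X) ⊆ Set.range q := fun z hz => by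
    obtain ⟨w, hw⟩ := (q ∣_ U).surjective ⟨z, hz⟩
    exact ⟨(q ⁻¹ᵁ U).ι w, (congrArg (fun h : (q ⁻¹ᵁ U : Scheme.{u}) ⟶ X => h w) (morphismRestrict_ι q U)).symm.trans
      (congrArg Subtype.val hw)⟩
  have hsurj : Surjective q := ⟨Set.range_eq_univ.1 (Set.univ_subset_iff.1
    ((U.isOpen.dense hne).closure_eq.symm.subset.trans
      (closure_minimal hrange q.isClosedMap.isClosed_range)))⟩
  haveI : IsLocallyNoetherian X' := LocallyOfFiniteType.isLocallyNoetherian (q ≫ f)
  haveI : CompactSpace X' := QuasiCompact.compactSpace_of_compactSpace (q ≫ f)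
  haveI : IsNoetherian X' := {}
  have hne' : ((q ⁻¹ᵁ U : X'.Opens) : Set X').Nonempty := by
    obtain ⟨w, hw⟩ := hrange hxU
    exact ⟨w, show q w ∈ U from hw.symm ▸ hxU⟩
  refine ⟨⟨U, hne, 𝓘, X', P, q, j, g, hb, hadm, hg, hj, hjd, hjg, hint, inferInstance, inferInstance, hsurj,
    inferInstance, ?_⟩⟩
  rw [← VarDimLib.dim_open_eq (q ≫ f) (q ⁻¹ᵁ U) hne', ← hd, ← VarDimLib.dim_open_eq f U hne]
  exact (Scheme.homeoOfIso (asIso (q ∣_ U))).isHomeomorph.topologicalKrullDim_eq _

variable {k : Type u} [Field k] {X : Scheme.{u}} (f : X ⟶ Spec (CommRingCat.of k)) [IsIntegral X]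
    [IsSeparated f] [LocallyOfFiniteType f] [QuasiCompact f]

/-- No top cohomology for ideals on a variety which is not proper. -/
theorem subsingleton_ideal {d : ℕ} (hd : topologicalKrullDim X = ((d + 1 : ℕ) : WithBot ℕ∞)) (hf : ¬ IsProper f)
    (J : X.Modules) (ι : J ⟶ Coh.structureModule X) [Mono ι] (hJ : Coh.IsQCoh J) :
    Subsingleton (Coh.HH X J (d + 1)) := by
  haveI : IsLocallyNoetherian X := LocallyOfFiniteType.isLocallyNoetherian f
  haveI : CompactSpace X := QuasiCompact.compactSpace_of_compactSpace f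
  haveI : IsNoetherian X := {}
  haveI := hJ
  have hJc : Coh.IsCoh J := QCohLib.isCoh_of_mono ι (DevissLib.isCoh_structureModule X) hJ
  obtain ⟨μ⟩ := exists_model f hd
  obtain ⟨U, hUne, 𝓘, X', P, q, j, g, hb, hadm, hg, _, _, hjg, _, _, _, _, _, hd'⟩ := μ
  have hf' : ¬ IsProper (q ≫ f) := fun h => hf (by
    haveI := h
    haveI : UniversallyClosed f := UniversallyClosed.of_comp_surjective q f
    exact {})
  obtain ⟨x₀, hx₀⟩ := hUne
  obtain ⟨V₀, hV₀, hxV₀, hV₀U⟩ := exists_isAffineOpen_mem_and_subset (x := x₀) (U := U) hx₀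
  by_cases hzero : ∀ s : Γ(J, V₀), s = 0
  · refine subsingleton_of_support V₀.isOpen.isClosed_compl (dim_le_of_ne_univ hd.le V₀.isOpen.isClosed_compl
      fun h => (h.symm ▸ Set.mem_univ x₀ : x₀ ∈ (V₀ : Set X)ᶜ) hxV₀) J fun x hx => ?_
    refine subsingleton_of_forall_eq 0 fun a => ?_
    have h1 := stalkMap_eq_zero hJc.2 (𝟙 J) hV₀ x (not_not.1 hx) (fun s => by
      rw [show (𝟙 J : J ⟶ J).app V₀ s = s from rfl, hzero s]; exact DevissLib.gm_zero J x _) a
    rw [CategoryTheory.Functor.map_id] at h1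
    exact h1
  obtain ⟨s₀, hs₀⟩ := not_forall.1 hzero
  let O' := Coh.structureModule X'
  have hO' : Coh.IsCoh O' := DevissLib.isCoh_structureModule X'
  let Q := (Coh.push q).obj O'
  have hQ : Coh.IsCoh Q := FormalCohLib.isCoh_push_proper q hO'
  haveI := hQ.1
  let one : Γ(Q, (⊤ : X.Opens)) := (show Γ(X', q ⁻¹ᵁ ⊤) from 1)
  let u₀ : Coh.structureModule X ⟶ Q := QCohLib.unitHom Q one
  have hu₀app : ∀ (W : X.Opens) (r : Γ(X, W)), u₀.app W r = (q.app W r : Γ(X', q ⁻¹ᵁ W)) := fun W r => by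
    show (q.app W r : Γ(X', q ⁻¹ᵁ W)) * X'.presheaf.map _ 1 = _
    rw [map_one, mul_one]
  have hu₀ : BijOn U u₀ := fun W hW => by
    haveI : IsIso (q ∣_ U) := ‹_›
    haveI : IsIso (q ∣_ W) := by
      have := EffCartLib.isIso_off_center 𝓘 q hb W (fun z hz h => Set.disjoint_left.1 hadm.2 h (hW hz))
      exact this
    have hbij : Function.Bijective (q.app W) := by
      have h1 : IsIso ((q ∣_ W).app ⊤) := inferInstance
      rw [morphismRestrict_app] at h1
      have h1' : IsIso (q.app (W.ι ''ᵁ ⊤)) := (isIso_comp_right_iff _ _).1 h1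
      have h2 := ConcreteCategory.bijective_of_isIso (q.app (W.ι ''ᵁ ⊤))
      rwa [W.ι_image_top] at h2
    refine ⟨fun r r' h => hbij.1 ((hu₀app W r).symm.trans (h.trans (hu₀app W r'))), fun z => ?_⟩
    obtain ⟨r, hr⟩ := hbij.2 z
    exact ⟨r, (hu₀app W r).trans hr⟩
  let u : J ⟶ Q := ι ≫ u₀
  have huinj : ∀ W : X.Opens, W ≤ U → Function.Injective (u.app W) := fun W hW =>
    (hu₀ W hW).1.comp (QCohLib.app_injective_of_mono ι W)
  let C := cokernel u
  have hC : Coh.IsCoh C := QCohLib.isCoh_cokernel u hJc.1 hQ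
  haveI := hC.1
  let 𝓝 := DevissLib.annIdeal C hC.2
  let π := cokernel.π u
  have hπ : ∀ (V : X.affineOpens), Function.Surjective (π.app V.1) := fun V => by
    haveI : Coh.IsQCoh (kernel π) := QCohLib.isQCoh_kernel π
    exact QCohLib.app_surjective_of_affine (S := ShortComplex.mk _ _ (kernel.condition π))
      { exact := ShortComplex.exact_of_f_is_kernel _ (kernelIsKernel π)
        mono_f := inferInstanceAs (Mono (kernel.ι π))
        epi_g := inferInstanceAs (Epi (cokernel.π u)) } V.2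
  -- the annihilator is not zero
  have hN : 𝓝 ≠ ⊥ := fun h => by
    let a : Γ(X, V₀) := ι.app V₀ s₀
    have ha : a ≠ 0 := fun h0 => hs₀ (QCohLib.app_injective_of_mono ι V₀ (h0.trans (map_zero _).symm))
    have hmem : a ∈ 𝓝.ideal ⟨V₀, hV₀⟩ := by
      refine Module.mem_annihilator.mpr fun m => ?_
      obtain ⟨w, rfl⟩ := hπ ⟨V₀, hV₀⟩ m
      obtain ⟨r, hr⟩ := (hu₀ V₀ hV₀U).2 w
      rw [← QCohLib.app_smul]
      have h2 : a • w = u.app V₀ ((show Γ(X, V₀) from r) • s₀) := by
        rw [QCohLib.app_smul, ← hr]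
        show a • u₀.app V₀ r = (show Γ(X, V₀) from r) • u₀.app V₀ (ι.app V₀ s₀)
        rw [← QCohLib.app_smul, ← QCohLib.app_smul]
        exact congrArg (u₀.app V₀) (mul_comm a r)
      rw [h2]
      exact congrArg (fun e : J ⟶ C => e.app V₀ ((show Γ(X, V₀) from r) • s₀)) (cokernel.condition u)
    rw [h, Scheme.IdealSheafData.ideal_bot] at hmem
    exact ha hmem
  let U₀ : X.Opens := U ⊓ ModPair.interior 𝓝
  have hU₀ne : (U₀ : Set X).Nonempty := by
    refine nonempty_preirreducible_inter U.isOpen (ModPair.interior 𝓝).isOpen ⟨x₀, hx₀⟩ ?_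
    by_contra hempty
    refine hN (Scheme.IdealSheafData.support_eq_top_iff.1 (Closeds.ext (Set.eq_univ_of_forall fun z => ?_)))
    by_contra hz
    exact hempty ⟨z, hz⟩
  -- a high power
  obtain ⟨t, ht⟩ := isCompact_univ.elim_finite_subcover (fun V : X.affineOpens => (V.1 : Set X))
    (fun V => V.1.2) fun y _ => by
      obtain ⟨V, hV, hy, -⟩ := exists_isAffineOpen_mem_and_subset (x := y) (U := (⊤ : X.Opens)) trivial
      exact Set.mem_iUnion.mpr ⟨⟨V, hV⟩, hy⟩
  choose c hc using exists_pow_mem q 𝓝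
  let e := t.sum c
  let 𝓣 := (𝓝.comap q) ^ e
  let T := ClSub.idealMod 𝓣
  have hTc : Coh.IsCoh T := by
    haveI := SweepSix.ConormalSpec.isQCoh_idealMod 𝓣
    haveI : Mono (ClSub.idealModι 𝓣) := inferInstanceAs (Mono (kernel.ι _))
    exact QCohLib.isCoh_of_mono (ClSub.idealModι 𝓣) hO' inferInstance
  let v : (Coh.push q).obj T ⟶ C := (Coh.push q).map (ClSub.idealModι 𝓣) ≫ π
  have hqT : Coh.IsCoh ((Coh.push q).obj T) := FormalCohLib.isCoh_push_proper q hTc
  have hv : v = 0 := eq_zero_of_stalk v fun x a => by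
    haveI := hqT.1
    obtain ⟨V, hV, hxV⟩ := Set.mem_iUnion₂.1 (ht (Set.mem_univ x))
    refine stalkMap_eq_zero hqT.2 v V.2 x hxV (fun s => ?_) a
    have hz : v.app V.1 s = 0 := by
      have h1 := hc V e (Finset.single_le_sum (fun _ _ => Nat.zero_le _) hV) s
      let π' : Γ(X', q ⁻¹ᵁ V.1) → Γ(C, V.1) := fun z => π.app V.1 (show Γ(Q, V.1) from z)
      have h2 : ∀ z ∈ (𝓝.ideal V).map (q.app V.1).hom, π' z = 0 := by
        intro z hz
        rw [Ideal.map] at hz
        induction hz using Submodule.span_induction with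
        | mem z hz =>
          obtain ⟨a, ha, rfl⟩ := hz
          show π.app V.1 (show Γ(Q, V.1) from (q.app V.1).hom a) = 0
          have h3 : (show Γ(Q, V.1) from (q.app V.1).hom a) = a • u₀.app V.1 (1 : Γ(X, V.1)) := by
            show (q.app V.1).hom a = (q.app V.1).hom a * (show Γ(X', q ⁻¹ᵁ V.1) from u₀.app V.1 (1 : Γ(X, V.1)))
            refine (mul_one _).symm.trans (congrArg _ ?_)
            exact ((hu₀app V.1 1).trans (map_one (q.app V.1).hom)).symm
          rw [h3, QCohLib.app_smul]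
          exact DevissLib.killed_annIdeal C hC.2 V a ha _
        | zero => exact map_zero (π.app V.1).hom
        | add z z' _ _ h h' =>
          show π' (z + z') = 0
          exact (map_add (π.app V.1).hom _ _).trans (by rw [show (π.app V.1).hom z = 0 from h,
            show (π.app V.1).hom z' = 0 from h', add_zero])
        | smul w z hz' h =>
          clear h
          induction hz' using Submodule.span_induction generalizing w with
          | mem z hz =>
            obtain ⟨a, ha, rfl⟩ := hz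
            show π.app V.1 (show Γ(Q, V.1) from w * (q.app V.1).hom a) = 0
            have h3 : (show Γ(Q, V.1) from w * (q.app V.1).hom a) = a • (show Γ(Q, V.1) from w) :=
              mul_comm w _
            rw [h3, QCohLib.app_smul]
            exact DevissLib.killed_annIdeal C hC.2 V a ha _
          | zero => show π' (w * 0) = 0; rw [mul_zero]; exact map_zero (π.app V.1).hom
          | add z z' _ _ h h' =>
            show π' (w * (z + z')) = 0
            rw [mul_add]
            exact (map_add (π.app V.1).hom _ _).trans (by rw [show (π.app V.1).hom (w * z) = 0 from h w,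
              show (π.app V.1).hom (w * z') = 0 from h' w, add_zero])
          | smul w' z _ h =>
            show π' (w * (w' * z)) = 0
            rw [← mul_assoc]
            exact h (w * w')
      exact h2 _ h1
    rw [hz]
    exact DevissLib.gm_zero C x hxV
  -- the comparison map
  let E := ClSub.idealMod (𝓘.comap q)
  obtain ⟨n₀, hn₀⟩ := exists_vanishing hb hadm.1 T hTc
  have hdisE : Disjoint ((q ⁻¹ᵁ U₀ : X'.Opens) : Set X') ((𝓘.comap q).support : Set X') :=
    Set.disjoint_left.2 fun w hw hwI => by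
      rw [Scheme.IdealSheafData.support_comap] at hwI
      exact Set.disjoint_left.1 hadm.2 hwI hw.1
  have hdisT : Disjoint ((q ⁻¹ᵁ U₀ : X'.Opens) : Set X') (𝓣.support : Set X') :=
    Set.disjoint_left.2 fun w hw hwI => by
      have hwI' : w ∈ ((𝓝.comap q).support : Set X') := by
        by_cases he : e = 0
        · simp [𝓣, he, Scheme.IdealSheafData.one_eq_top] at hwI
        · rwa [Scheme.IdealSheafData.support_pow _ e he] at hwI
      rw [Scheme.IdealSheafData.support_comap] at hwI'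
      exact hw.2 hwI'
  obtain ⟨ε, hε⟩ := exists_tensorPow_hom (𝓘.comap q) (q ⁻¹ᵁ U₀) hdisE n₀
  let M := CohB1.tensorMod T (CohB1.tensorPow E n₀)
  let α₁ : M ⟶ T := ((DCoh.tensorBi (X := X')).obj T).map ε ≫ (PicPnLib.unitRight T).hom
  have hα₁ : BijOn (q ⁻¹ᵁ U₀) α₁ := (hε.tensorRight T).comp (bijOn_of_isIso _ _)
  have hα : BijOn U₀ ((Coh.push q).map (α₁ ≫ ClSub.idealModι 𝓣)) :=
    (hα₁.comp (bijOn_idealModι 𝓣 hdisT)).push q
  have hw : (Coh.push q).map (α₁ ≫ ClSub.idealModι 𝓣) ≫ π = 0 := by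
    rw [Functor.map_comp, Category.assoc]
    show _ ≫ v = 0
    rw [hv, comp_zero]
  let β : (Coh.push q).obj M ⟶ Abelian.image u := kernel.lift π _ hw
  have hβι : β ≫ Abelian.image.ι u = (Coh.push q).map (α₁ ≫ ClSub.idealModι 𝓣) := kernel.lift_ι π _ hw
  have hIm : Subsingleton (Coh.HH X (Abelian.image u) (d + 1)) := by
    have hM : Coh.IsCoh M := SerreVanLib.isCoh_tensor hTc
      (AmpleThLib.tensorPow_isInvertible (IntMultLib.isInvertible_idealMod _ hb.1) n₀)
    obtain ⟨eq⟩ := hn₀ n₀ le_rfl (d + 1)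
    haveI : Subsingleton (Coh.HH X ((Coh.push q).obj M) (d + 1)) :=
      eq.toEquiv.subsingleton_congr.1 (subsingleton_of_open_projective (q ≫ f) j g hg hjg hf' hd' M hM)
    refine Function.Surjective.subsingleton (surjective_of_open hd.le hU₀ne β fun x hx b => ?_)
    obtain ⟨a, ha⟩ := (hα.stalk hx).2 (((St x).map (Abelian.image.ι u)).hom b)
    refine ⟨a, (ModuleCat.mono_iff_injective ((St x).map (Abelian.image.ι u))).1 inferInstance ?_⟩
    refine Eq.trans ?_ ha
    rw [← hβι, Functor.map_comp]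
    rfl
  -- back to the ideal
  have hS : (ShortComplex.mk (kernel.ι (Abelian.factorThruImage u)) (Abelian.factorThruImage u)
      (kernel.condition _)).ShortExact :=
    { exact := ShortComplex.exact_of_f_is_kernel _ (kernelIsKernel _)
      mono_f := inferInstanceAs (Mono (kernel.ι _))
      epi_g := inferInstanceAs (Epi (Abelian.factorThruImage u)) }
  refine subsingleton_middle hS (subsingleton_of_support U.isOpen.isClosed_compl
    (dim_le_of_ne_univ hd.le U.isOpen.isClosed_compl fun h => (h.symm ▸ Set.mem_univ x₀ : x₀ ∈ (U : Set X)ᶜ) hx₀) _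
    fun x hx => subsingleton_of_forall_eq 0 fun a => ?_) hIm
  obtain ⟨W, hxW, s, rfl⟩ := DevissLib.exists_gm_eq _ x a
  let W' := W ⊓ U
  let K := kernel (Abelian.factorThruImage u)
  have hs : K.presheaf.map (homOfLE (inf_le_left : W' ≤ W)).op s = 0 := by
    apply QCohLib.app_injective_of_mono (kernel.ι (Abelian.factorThruImage u)) W'
    rw [map_zero]
    apply huinj W' inf_le_right
    rw [map_zero]
    have h0 : kernel.ι (Abelian.factorThruImage u) ≫ u = 0 :=
      (congrArg (fun t => kernel.ι (Abelian.factorThruImage u) ≫ t) (Abelian.image.fac u).symm).trans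
        (by rw [kernel.condition_assoc, zero_comp])
    exact congrArg (fun e : K ⟶ Q => e.app W' (K.presheaf.map (homOfLE (inf_le_left : W' ≤ W)).op s)) h0
  show gm K x hxW s = 0
  rw [← gm_map K (inf_le_left : W' ≤ W) x ⟨hxW, not_not.1 hx⟩, hs]
  exact DevissLib.gm_zero K x _

/-- A proper variety has top cohomology. -/
theorem exists_nontrivial_of_proper {d : ℕ} (hd : topologicalKrullDim X = ((d + 1 : ℕ) : WithBot ℕ∞))
    (hf : IsProper f) : ∃ M : X.Modules, Coh.IsCoh M ∧ Nontrivial (Coh.HH X M (d + 1)) := by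
  haveI : IsLocallyNoetherian X := LocallyOfFiniteType.isLocallyNoetherian f
  haveI : CompactSpace X := QuasiCompact.compactSpace_of_compactSpace f
  haveI : IsNoetherian X := {}
  obtain ⟨μ⟩ := exists_model f hd
  obtain ⟨U, ⟨x₀, hx₀⟩, 𝓘, X', P, q, j, g, hb, hadm, hg, _, _, hjg, _, _, _, _, _, hd'⟩ := μ
  haveI := RelProjLib.isProper_of_isProjective hg
  haveI : IsProper (j ≫ g) := by rw [hjg]; infer_instance
  haveI : IsProper j := IsProper.of_comp j g
  haveI : Surjective j := ⟨Set.range_eq_univ.1 (by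
    rw [← j.denseRange.closure_eq, j.isClosedMap.isClosed_range.closure_eq])⟩
  haveI : IsIso j := IsOpenImmersion.isIso j
  obtain ⟨N, e₀, he₀, -⟩ := RelProjLib.isHProjective_of_isProjective hg
  obtain ⟨ε, -⟩ := exists_iso_over N k
  obtain ⟨M, hM, hnt⟩ := exists_nontrivial_of_projective (j ≫ e₀ ≫ ε.inv) hd'
  obtain ⟨n₀, hn₀⟩ := exists_vanishing hb hadm.1 M hM
  let M' := CohB1.tensorMod M (CohB1.tensorPow (ClSub.idealMod (𝓘.comap q)) n₀)
  have hM' : Coh.IsCoh M' := SerreVanLib.isCoh_tensor hM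
    (AmpleThLib.tensorPow_isInvertible (IntMultLib.isInvertible_idealMod _ hb.1) n₀)
  refine ⟨(Coh.push q).obj M', FormalCohLib.isCoh_push_proper q hM', ?_⟩
  obtain ⟨eq⟩ := hn₀ n₀ le_rfl (d + 1)
  refine (not_subsingleton_iff_nontrivial.1 fun hsub => not_subsingleton_iff_nontrivial.2 hnt ?_)
  haveI : Subsingleton (Coh.HH X' M' (d + 1)) := eq.toEquiv.subsingleton_congr.2 hsub
  have hdis : Disjoint ((q ⁻¹ᵁ U : X'.Opens) : Set X') ((𝓘.comap q).support : Set X') :=
    Set.disjoint_left.2 fun w hw hwI => by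
      rw [Scheme.IdealSheafData.support_comap] at hwI
      exact Set.disjoint_left.1 hadm.2 hwI hw
  obtain ⟨η, hη⟩ := exists_tensorPow_hom (𝓘.comap q) (q ⁻¹ᵁ U) hdis n₀
  let α : M' ⟶ M := ((DCoh.tensorBi (X := X')).obj M).map η ≫ (PicPnLib.unitRight M).hom
  have hα : BijOn (q ⁻¹ᵁ U) α := (hη.tensorRight M).comp (bijOn_of_isIso _ _)
  obtain ⟨w, hw⟩ := q.surjective x₀
  exact Function.Surjective.subsingleton (surjective_of_open hd'.le (U := q ⁻¹ᵁ U)
    ⟨w, show q w ∈ U from hw.symm ▸ hx₀⟩ α fun z hz => (hα.stalk hz).2)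

end LichtLib
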